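import Mathlib

/-!
Horrocks' theorem for vector bundles on the projective line over a local ring: if such a bundle is
given by two charts, its restriction to the affine line is free.
-/

set_option autoImplicit false

universe u

open Polynomial IsLocalRing

namespace Groth.Agent.CAlg9.Horrocks

variable {A : Type u} [CommRing A]

/-- The chart at the origin. -/
noncomputable abbrev σ₁ : A[X] →+* LaurentPolynomial A := Polynomial.toLaurent

/-- The chart at infinity. -/
noncomputable abbrev σ₂ : A[X] →+* LaurentPolynomial A :=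
  (LaurentPolynomial.invert (R := A)).toRingEquiv.toRingHom.comp Polynomial.toLaurent

theorem σ₁_X_pow (k : ℕ) : σ₁ ((X : A[X]) ^ k) = LaurentPolynomial.T (k : ℤ) :=
  Polynomial.toLaurent_X_pow k

theorem σ₂_X_pow (k : ℕ) : σ₂ ((X : A[X]) ^ k) = LaurentPolynomial.T (-(k : ℤ)) := by
  show LaurentPolynomial.invert (Polynomial.toLaurent ((X : A[X]) ^ k)) = _
  rw [Polynomial.toLaurent_X_pow, LaurentPolynomial.invert_T]

theorem σ₁_C (a : A) : σ₁ (C a) = algebraMap A (LaurentPolynomial A) a := by
  rw [σ₁, Polynomial.toLaurent_C]; rfl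

theorem σ₂_C (a : A) : σ₂ (C a) = algebraMap A (LaurentPolynomial A) a := by
  show LaurentPolynomial.invert (Polynomial.toLaurent (C a)) = _
  rw [Polynomial.toLaurent_C]
  exact (LaurentPolynomial.invert (R := A)).commutes a

theorem T_mul_T (m n : ℤ) : (LaurentPolynomial.T m * LaurentPolynomial.T n : LaurentPolynomial A) =
    LaurentPolynomial.T (m + n) := (LaurentPolynomial.T_add m n).symm

variable {W : Type u} [AddCommGroup W] [Module (LaurentPolynomial A) W] [Module A W]
  [IsScalarTower A (LaurentPolynomial A) W]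

section chart

variable {σ : A[X] →+* LaurentPolynomial A} {N : Type u} [AddCommGroup N] [Module A[X] N]
  [Module A N] [IsScalarTower A A[X] N]

/-- `N` is a chart of `W` along `σ`. -/
structure IsChart (j : N →ₛₗ[σ] W) : Prop where
  inj : Function.Injective j
  absorb : ∀ w : W, ∃ k : ℕ, σ (X ^ k) • w ∈ Set.range j

theorem IsChart.mono {j : N →ₛₗ[σ] W} {w : W} {k : ℕ} (l : ℕ) (hk : σ (X ^ k) • w ∈ Set.range j) :
    σ (X ^ (l + k)) • w ∈ Set.range j := by
  obtain ⟨n, hn⟩ := hk
  exact ⟨X ^ l • n, by rw [map_smulₛₗ, hn, ← mul_smul, ← map_mul, ← pow_add]⟩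

theorem IsChart.absorb_finset {j : N →ₛₗ[σ] W} (hj : IsChart j) {ι : Type*} (s : Finset ι)
    (w : ι → W) : ∃ k : ℕ, ∀ i ∈ s, σ (X ^ k) • w i ∈ Set.range j := by
  classical
  choose k hk using fun i => hj.absorb (w i)
  refine ⟨s.sup k, fun i hi => ?_⟩
  obtain ⟨l, hl⟩ := Nat.exists_eq_add_of_le (Finset.le_sup (f := k) hi)
  rw [hl, add_comm]
  exact IsChart.mono l (hk i)

theorem smul_scalar (hσ : ∀ a, σ (C a) = algebraMap A (LaurentPolynomial A) a) (j : N →ₛₗ[σ] W)
    (a : A) (n : N) : j (a • n) = a • j n := by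
  rw [← algebraMap_smul A[X] a n, Polynomial.algebraMap_eq, map_smulₛₗ, hσ, algebraMap_smul]

theorem mem_smul_top_of_mem (hσ : ∀ a, σ (C a) = algebraMap A (LaurentPolynomial A) a)
    (j : N →ₛₗ[σ] W) (I : Ideal A) {x : N} (hx : x ∈ I • (⊤ : Submodule A N)) :
    j x ∈ I • (⊤ : Submodule A W) := by
  refine Submodule.smul_induction_on hx (fun a ha n _ => ?_) (fun x y hx hy => ?_)
  · rw [smul_scalar hσ]
    exact Submodule.smul_mem_smul ha Submodule.mem_top
  · rw [map_add]; exact add_mem hx hy

/-- Division by `X`, linearly. -/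
noncomputable def divXL (A : Type u) [CommRing A] (r : ℕ) : (Fin r → A[X]) →ₗ[A] (Fin r → A[X]) where
  toFun f i := (f i).divX
  map_add' f g := funext fun i => divX_add
  map_smul' a f := funext fun i => by ext n; simp

theorem shift_mem {r : ℕ} (I : Ideal A) {v : Fin r → A[X]} (k : ℕ)
    (h : (X : A[X]) ^ k • v ∈ I • (⊤ : Submodule A (Fin r → A[X]))) :
    v ∈ I • (⊤ : Submodule A (Fin r → A[X])) := by
  induction k with
  | zero => simpa using h
  | succ k ih =>
    refine ih ?_
    have h' := Submodule.mem_map_of_mem (f := divXL A r) h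
    rw [Submodule.map_smul''] at h'
    have h'' := Submodule.smul_mono le_rfl le_top h'
    convert h'' using 1
    funext i
    show _ = ((X : A[X]) ^ (k + 1) * v i).divX
    rw [pow_succ', mul_assoc]
    ext n
    simp [coeff_X_mul]

theorem mem_smul_top_of_X_pow [Module.Projective A[X] N] [Module.Finite A[X] N] (I : Ideal A)
    {x : N} (k : ℕ) (h : (X : A[X]) ^ k • x ∈ I • (⊤ : Submodule A N)) :
    x ∈ I • (⊤ : Submodule A N) := by
  obtain ⟨r, π, hπ⟩ := Module.Finite.exists_fin' A[X] N
  obtain ⟨s, hs⟩ := Module.projective_lifting_property π LinearMap.id hπ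
  have h1 := Submodule.mem_map_of_mem (f := s.restrictScalars A) h
  rw [Submodule.map_smul'', LinearMap.restrictScalars_apply, map_smul] at h1
  have h2 := shift_mem I k (Submodule.smul_mono le_rfl le_top h1)
  have h3 := Submodule.mem_map_of_mem (f := π.restrictScalars A) h2
  rw [Submodule.map_smul'', LinearMap.restrictScalars_apply, ← LinearMap.comp_apply, hs] at h3
  exact Submodule.smul_mono le_rfl le_top h3

theorem IsChart.mem_smul_top [Module.Projective A[X] N] [Module.Finite A[X] N] {j : N →ₛₗ[σ] W}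
    (hj : IsChart j) (hσ : ∀ a, σ (C a) = algebraMap A (LaurentPolynomial A) a) (I : Ideal A)
    {x : N} (h : j x ∈ I • (⊤ : Submodule A W)) : x ∈ I • (⊤ : Submodule A N) := by
  -- clear denominators
  have key : ∀ w ∈ I • (⊤ : Submodule A W),
      ∃ k : ℕ, ∃ y ∈ I • (⊤ : Submodule A N), σ (X ^ k) • w = j y := by
    intro w hw
    refine Submodule.smul_induction_on hw (fun a ha w _ => ?_) ?_
    · obtain ⟨k, n, hn⟩ := hj.absorb w
      exact ⟨k, a • n, Submodule.smul_mem_smul ha Submodule.mem_top, by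
        rw [smul_scalar hσ, hn, smul_comm]⟩
    · rintro w₁ w₂ ⟨k, y, hy, e⟩ ⟨l, z, hz, e'⟩
      refine ⟨k + l, (X : A[X]) ^ l • y + (X : A[X]) ^ k • z, add_mem ?_ ?_, ?_⟩
      · have := Submodule.mem_map_of_mem (f := ((LinearMap.lsmul A[X] N) (X ^ l)).restrictScalars A) hy
        rw [Submodule.map_smul''] at this
        exact Submodule.smul_mono le_rfl le_top this
      · have := Submodule.mem_map_of_mem (f := ((LinearMap.lsmul A[X] N) (X ^ k)).restrictScalars A) hz
        rw [Submodule.map_smul''] at this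
        exact Submodule.smul_mono le_rfl le_top this
      · rw [map_add, map_smulₛₗ, map_smulₛₗ, ← e, ← e', ← mul_smul, ← mul_smul, ← map_mul,
          ← map_mul, ← pow_add, ← pow_add, smul_add, add_comm l k]
  obtain ⟨k, y, hy, e⟩ := key _ h
  refine mem_smul_top_of_X_pow I k ?_
  rw [← map_smulₛₗ] at e
  rw [hj.inj e]
  exact hy

end chart

section schanuel

theorem schanuel {S F P : Type u} [CommRing S] [AddCommGroup F] [Module S F] [Module.Projective S F]
    [Module.Finite S F] [AddCommGroup P] [Module S P] [Module.Projective S P] [Module.Finite S P]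
    (Λ : Submodule S F)
    (ev : P →ₗ[S] F ⧸ Λ) (D : P →ₗ[S] P) (hinj : Function.Injective D)
    (hsurj : Function.Surjective ev) (hevD : ∀ v, ev (D v) = 0)
    (hker : ∀ v, ev v = 0 → v ∈ LinearMap.range D) :
    Module.Finite S Λ ∧ Module.Projective S Λ := by
  obtain ⟨l, hl⟩ := Module.projective_lifting_property Λ.mkQ ev Λ.mkQ_surjective
  obtain ⟨l', hl'⟩ := Module.projective_lifting_property ev Λ.mkQ hsurj
  let e : P ≃ₗ[S] LinearMap.range D := LinearEquiv.ofInjective D hinj
  have hjmem : ∀ a : Λ, l' (a : F) ∈ LinearMap.range D := fun a =>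
    hker _ ((LinearMap.congr_fun hl' _).trans ((Submodule.Quotient.mk_eq_zero Λ).mpr a.2))
  let j : Λ →ₗ[S] F × LinearMap.range D :=
    Λ.subtype.prod (LinearMap.codRestrict _ (l'.comp Λ.subtype) hjmem)
  let π : F × LinearMap.range D →ₗ[S] Λ :=
    LinearMap.codRestrict Λ ((LinearMap.id - l.comp l').coprod (l.comp (LinearMap.range D).subtype))
      (fun v => by
        obtain ⟨f, ⟨_, w, rfl⟩⟩ := v
        have h1 := LinearMap.congr_fun hl (l' f)
        have h2 := LinearMap.congr_fun hl' f
        have h3 := LinearMap.congr_fun hl (D w)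
        simp only [LinearMap.comp_apply, hevD] at h1 h2 h3
        rw [← Submodule.Quotient.mk_eq_zero, ← Submodule.mkQ_apply]
        simp [LinearMap.coprod_apply, h1, h2, h3, map_sub, map_add])
  have : Module.Projective S (LinearMap.range D) := Module.Projective.of_equiv e
  have : Module.Finite S (LinearMap.range D) := Module.Finite.equiv e
  have hπj : π ∘ₗ j = LinearMap.id := by
    ext a
    simp only [j, π, LinearMap.comp_apply, LinearMap.prod_apply, LinearMap.id_apply]
    exact sub_add_cancel (a : F) (l (l' (a : F)))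
  exact ⟨Module.Finite.of_surjective π (fun a => ⟨j a, LinearMap.congr_fun hπj a⟩),
    Module.Projective.of_split j π hπj⟩

end schanuel

theorem eq_zero_of_mul_unit_coeff {a p : A[X]} (ha : IsUnit (a.coeff 0)) (h : a * p = 0) :
    p = 0 := by
  by_contra hp
  have h1 := congrArg (fun q => coeff q p.natTrailingDegree) h
  simp only [coeff_zero] at h1
  rw [coeff_mul, Finset.sum_eq_single (0, p.natTrailingDegree)] at h1
  · exact hp (coeff_natTrailingDegree_eq_zero.mp (ha.mul_right_eq_zero.mp h1))
  · rintro ⟨i, j⟩ hij hne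
    rw [Finset.HasAntidiagonal.mem_antidiagonal] at hij
    have : j < p.natTrailingDegree := by
      rcases Nat.eq_zero_or_pos i with rfl | hi
      · exact absurd (by simpa using hij) hne
      · omega
    rw [coeff_eq_zero_of_lt_natTrailingDegree this, mul_zero]
  · intro h; exact absurd (Finset.HasAntidiagonal.mem_antidiagonal.mpr (zero_add _)) h

section local_ring

variable [IsLocalRing A]

local notation "𝔪" => maximalIdeal A

/-- One modification step of the chart at infinity. -/
theorem step {N : Type u} [AddCommGroup N] [Module A[X] N] [Module A N] [IsScalarTower A A[X] N]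
    [Module.Finite A[X] N] [Module.Projective A[X] N] (j : N →ₛₗ[σ₂ (A := A)] W) (hj : IsChart j)
    {n : ℕ} (u : Fin n → N) (K : ℕ)
    (hK : ∀ x : N, (X : A[X]) ^ (K + 1) • x ∈
      (Submodule.span A[X] (Set.range u)).restrictScalars A ⊔ 𝔪 • (⊤ : Submodule A N)) :
    ∃ (N' : Submodule A[X] N) (u' : Fin n → N'), Module.Finite A[X] N' ∧ Module.Projective A[X] N' ∧
      IsChart (j.comp N'.subtype) ∧
      (∀ i, (u' i : N) - u i ∈ 𝔪 • (⊤ : Submodule A N)) ∧
      ∀ x : N', (X : A[X]) ^ K • x ∈
        (Submodule.span A[X] (Set.range u')).restrictScalars A ⊔ 𝔪 • (⊤ : Submodule A N') := by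
  classical
  let XL : N →ₗ[A] N := ((LinearMap.lsmul A[X] N) X).restrictScalars A
  let S0 : Submodule A N := (Submodule.span A[X] (Set.range u)).restrictScalars A ⊔ LinearMap.range XL
  obtain ⟨r, π, hπ⟩ := Module.Finite.exists_fin' A[X] N
  obtain ⟨σN, hσN⟩ := Module.projective_lifting_property π LinearMap.id hπ
  let g : Fin r → N := fun l => π (Pi.single l 1)
  have hrep : ∀ x : N, x - ∑ l, ((σN x) l).coeff 0 • g l ∈ LinearMap.range XL := by
    intro x
    refine ⟨∑ l, ((σN x) l).divX • g l, ?_⟩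
    have hx : x = ∑ l, (σN x) l • g l := by
      conv_lhs => rw [← LinearMap.id_apply (R := A[X]) x, ← hσN, LinearMap.comp_apply,
        pi_eq_sum_univ' (σN x)]
      rw [map_sum]
      exact Finset.sum_congr rfl fun l _ => by rw [map_smul]
    show (X : A[X]) • (∑ l, ((σN x) l).divX • g l) = _
    rw [Finset.smul_sum, eq_sub_iff_add_eq, ← Finset.sum_add_distrib]
    refine (Finset.sum_congr rfl fun l _ => ?_).trans hx.symm
    rw [← algebraMap_smul A[X] (((σN x) l).coeff 0) (g l), Polynomial.algebraMap_eq, ← mul_smul,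
      ← add_smul, X_mul_divX_add]
  let N1 := (N ⧸ S0) ⧸ 𝔪 • (⊤ : Submodule A (N ⧸ S0))
  let cls : N →ₗ[A] N1 := (𝔪 • (⊤ : Submodule A (N ⧸ S0))).mkQ.comp S0.mkQ
  have hclsS0 : ∀ x ∈ S0, cls x = 0 := fun x hx => by
    simp [cls, (Submodule.Quotient.mk_eq_zero S0).mpr hx]
  let : Field (A ⧸ 𝔪) := Ideal.Quotient.field 𝔪
  have hfinQ : Module.Finite A (N ⧸ S0) := by
    refine Module.Finite.of_fg_top ⟨Finset.univ.image (fun l => S0.mkQ (g l)), ?_⟩
    refine eq_top_iff.mpr fun z _ => ?_
    obtain ⟨x, rfl⟩ := S0.mkQ_surjective z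
    have : S0.mkQ x = S0.mkQ (∑ l, ((σN x) l).coeff 0 • g l) := by
      rw [← sub_eq_zero, ← map_sub]
      exact (Submodule.Quotient.mk_eq_zero S0).mpr (Submodule.mem_sup_right (hrep x))
    rw [this, map_sum]
    exact Submodule.sum_mem _ fun l _ => by
      rw [map_smul]
      exact Submodule.smul_mem _ _ (Submodule.subset_span (Finset.mem_coe.mpr
        (Finset.mem_image_of_mem _ (Finset.mem_univ l))))
  have : Module.Finite (A ⧸ 𝔪) N1 := Module.Finite.of_restrictScalars_finite A _ _
  obtain ⟨d, ⟨b⟩⟩ : ∃ d, Nonempty (Module.Basis (Fin d) (A ⧸ 𝔪) N1) :=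
    ⟨_, ⟨Module.finBasis (A ⧸ 𝔪) N1⟩⟩
  let ev1 : (Fin d → A) →ₗ[A] N1 := Fintype.linearCombination A b
  have hev1 : Function.Surjective ev1 := by
    intro z
    choose c hc using fun l => Ideal.Quotient.mk_surjective (b.repr z l)
    refine ⟨c, ?_⟩
    rw [Fintype.linearCombination_apply]
    conv_rhs => rw [← b.sum_repr z]
    refine Finset.sum_congr rfl fun l _ => ?_
    rw [← hc l]
    exact (IsScalarTower.algebraMap_smul (A ⧸ 𝔪) (c l) (b l)).symm
  have hev1ker : ∀ c, ev1 c = 0 → c ∈ 𝔪 • (⊤ : Submodule A (Fin d → A)) := by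
    intro c hc
    rw [pi_eq_sum_univ c]
    refine Submodule.sum_mem _ fun l _ => Submodule.smul_mem_smul ?_ Submodule.mem_top
    rw [← Ideal.Quotient.eq_zero_iff_mem]
    refine Fintype.linearIndependent_iff.mp b.linearIndependent (fun l => Ideal.Quotient.mk 𝔪 (c l)) ?_ l
    rw [Fintype.linearCombination_apply] at hc
    exact Eq.trans (Finset.sum_congr rfl fun i _ => IsScalarTower.algebraMap_smul (A ⧸ 𝔪) (c i) (b i)) hc
  choose lam0 hlam0 using fun l => hev1 (cls (g l))
  let lam : N →ₗ[A] (Fin d → A) :=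
    { toFun := fun x => ∑ l, ((σN x) l).coeff 0 • lam0 l
      map_add' := fun x y => by simp [add_smul, Finset.sum_add_distrib]
      map_smul' := fun a x => by
        simp [Finset.smul_sum, mul_smul, LinearMap.map_smul_of_tower] }
  have hlampoly : ∀ (p : A[X]) (x : N), lam (p • x) = p.coeff 0 • lam x := by
    intro p x
    simp [lam, Finset.smul_sum, mul_coeff_zero, mul_smul]
  have hlamX : ∀ x : N, lam ((X : A[X]) • x) = 0 := fun x => by rw [hlampoly, coeff_X_zero, zero_smul]
  have hlamcls : ∀ x, ev1 (lam x) = cls x := by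
    intro x
    have h1 : cls x = cls (∑ l, ((σN x) l).coeff 0 • g l) := by
      rw [← sub_eq_zero, ← map_sub]
      exact hclsS0 _ (Submodule.mem_sup_right (hrep x))
    rw [h1, map_sum]
    simp only [lam, LinearMap.coe_mk, AddHom.coe_mk, map_sum, map_smul, hlam0]
  have hcls : Function.Surjective cls :=
    (Submodule.mkQ_surjective _).comp (Submodule.mkQ_surjective _)
  have hlam : Function.Surjective lam := by
    rw [← LinearMap.range_eq_top, eq_top_iff]
    refine Submodule.le_of_le_smul_of_le_jacobson_bot Module.Finite.fg_top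
      (IsLocalRing.maximalIdeal_le_jacobson ⊥) ?_
    intro c _
    obtain ⟨x, hx⟩ := hcls (ev1 c)
    rw [show c = lam x + (c - lam x) by abel]
    refine add_mem (Submodule.mem_sup_left ⟨x, rfl⟩) (Submodule.mem_sup_right (hev1ker _ ?_))
    rw [map_sub, hlamcls, hx, sub_self]
  let N' : Submodule A[X] N :=
    { carrier := {x | lam x = 0}
      add_mem' := fun {a b} ha hb => by simp [Set.mem_ofPred_eq.mp ha, Set.mem_ofPred_eq.mp hb]
      zero_mem' := map_zero lam
      smul_mem' := fun p x hx => by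
        rw [Set.mem_ofPred_eq, hlampoly, Set.mem_ofPred_eq.mp hx, smul_zero] }
  have hN' : ∀ x, x ∈ N' ↔ lam x = 0 := fun x => Iff.rfl
  choose v hv using fun i => hlam (Pi.single i 1)
  have hlamv : ∀ c : Fin d → A, lam (∑ i, c i • v i) = c := fun c => by
    rw [map_sum]
    conv_rhs => rw [pi_eq_sum_univ' c]
    exact Finset.sum_congr rfl fun i _ => by rw [map_smul, hv]
  -- projection onto `N'`
  let proj : N →ₗ[A] N' :=
    LinearMap.codRestrict (N'.restrictScalars A)
      (LinearMap.id - (Fintype.linearCombination A v).comp lam) (fun x => by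
        show lam _ = 0
        rw [LinearMap.sub_apply, LinearMap.comp_apply, Fintype.linearCombination_apply, map_sub,
          hlamv, LinearMap.id_apply, sub_self])
  have hprojval : ∀ x, (proj x : N) = x - Fintype.linearCombination A v (lam x) := fun x => rfl
  have hproj : ∀ x : N', proj (x : N) = x := fun x => Subtype.ext (by
    rw [hprojval, (hN' x).mp x.2, map_zero, sub_zero])
  have hpure : ∀ x : N', (x : N) ∈ 𝔪 • (⊤ : Submodule A N) → x ∈ 𝔪 • (⊤ : Submodule A N') := by
    intro x hx
    have := Submodule.mem_map_of_mem (f := proj) hx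
    rw [Submodule.map_smul'', hproj] at this
    exact Submodule.smul_mono le_rfl le_top this
  have hclsu : ∀ i, cls (u i) = 0 := fun i =>
    hclsS0 _ (Submodule.mem_sup_left (Submodule.subset_span ⟨i, rfl⟩))
  let u' : Fin n → N' := fun i => proj (u i)
  have hu' : ∀ i, (u' i : N) - u i ∈ 𝔪 • (⊤ : Submodule A N) := by
    intro i
    rw [hprojval, sub_sub_cancel_left]
    refine neg_mem ?_
    have := Submodule.mem_map_of_mem (f := Fintype.linearCombination A v)
      (hev1ker (lam (u i)) (by rw [hlamcls, hclsu]))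
    rw [Submodule.map_smul''] at this
    exact Submodule.smul_mono le_rfl le_top this
  -- projectivity
  let ev : (Fin d → A[X]) →ₗ[A[X]] N ⧸ N' := Fintype.linearCombination A[X] fun i => N'.mkQ (v i)
  have hlift : ∀ c : Fin d → A[X], ev c = N'.mkQ (∑ i, c i • v i) := fun c => by
    simp [ev, Fintype.linearCombination_apply]
  have hproj' : Module.Finite A[X] N' ∧ Module.Projective A[X] N' := by
    refine schanuel N' ev ((LinearMap.lsmul A[X] (Fin d → A[X])) X) ?_ ?_ ?_ ?_
    · intro a b hab
      funext i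
      have h1 : (X : A[X]) * a i = X * b i := congrFun hab i
      exact monic_X.isRegular.left h1
    · intro z
      obtain ⟨x, rfl⟩ := N'.mkQ_surjective z
      refine ⟨fun i => C (lam x i), ?_⟩
      rw [hlift, ← sub_eq_zero, ← map_sub, Submodule.mkQ_apply, Submodule.Quotient.mk_eq_zero, hN',
        map_sub, map_sum]
      simp only [hlampoly, coeff_C_zero]
      rw [show (∑ i, lam x i • lam (v i)) = lam (∑ i, lam x i • v i) by simp [map_sum, map_smul],
        hlamv, sub_self]
    · intro c
      rw [hlift, Submodule.mkQ_apply, Submodule.Quotient.mk_eq_zero, hN']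
      simp only [LinearMap.lsmul_apply, Pi.smul_apply, smul_eq_mul, mul_smul, ← Finset.smul_sum]
      exact hlamX _
    · intro c hc
      rw [hlift, Submodule.mkQ_apply, Submodule.Quotient.mk_eq_zero, hN', map_sum] at hc
      have hc0 : (fun i => (c i).coeff 0) = (0 : Fin d → A) := by
        rw [← hlamv (fun i => (c i).coeff 0), map_sum, ← hc]
        exact Finset.sum_congr rfl fun i _ => by rw [map_smul, hlampoly]
      refine ⟨fun i => (c i).divX, funext fun i => ?_⟩
      rw [LinearMap.lsmul_apply, Pi.smul_apply, smul_eq_mul]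
      conv_rhs => rw [← X_mul_divX_add (c i), congrFun hc0 i, Pi.zero_apply, map_zero, add_zero]
  refine ⟨N', u', hproj'.1, hproj'.2, ⟨fun a b hab => Subtype.ext (hj.inj hab), fun w => ?_⟩, hu', ?_⟩
  · obtain ⟨k, x, hx⟩ := hj.absorb w
    refine ⟨1 + k, ⟨⟨(X : A[X]) • x, hlamX x⟩, ?_⟩⟩
    show j ((X : A[X]) • x) = _
    rw [map_smulₛₗ, hx, ← mul_smul, ← map_mul, pow_add, pow_one]
  · intro x
    -- `x` dies in `N1`
    have h1 : cls (x : N) = 0 := by rw [← hlamcls, (hN' x).mp x.2, map_zero]
    have h2 : (x : N) ∈ S0 ⊔ 𝔪 • (⊤ : Submodule A N) := by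
      have h3 : S0.mkQ (x : N) ∈ 𝔪 • (⊤ : Submodule A (N ⧸ S0)) :=
        (Submodule.Quotient.mk_eq_zero _).mp h1
      rw [← S0.range_mkQ, ← Submodule.map_top, ← Submodule.map_smul''] at h3
      obtain ⟨z, hz, hzx⟩ := h3
      rw [show (x : N) = ((x : N) - z) + z by abel]
      refine add_mem (Submodule.mem_sup_left ?_) (Submodule.mem_sup_right hz)
      rw [← Submodule.Quotient.eq]
      exact hzx.symm
    let U : Submodule A N := (Submodule.span A[X] (Set.range u)).restrictScalars A ⊔ 𝔪 • (⊤ : Submodule A N)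
    have hX : ∀ y ∈ 𝔪 • (⊤ : Submodule A N), (X : A[X]) ^ K • y ∈ 𝔪 • (⊤ : Submodule A N) := by
      intro y hy
      have := Submodule.mem_map_of_mem (f := ((LinearMap.lsmul A[X] N) ((X : A[X]) ^ K)).restrictScalars A) hy
      rw [Submodule.map_smul''] at this
      exact Submodule.smul_mono le_rfl le_top this
    have h4 : (X : A[X]) ^ K • (x : N) ∈ U := by
      obtain ⟨a, ha, z, hz, e⟩ := Submodule.mem_sup.mp h2
      obtain ⟨p, hp, _, ⟨y, rfl⟩, e'⟩ := Submodule.mem_sup.mp ha
      rw [← e, ← e', smul_add, smul_add]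
      refine add_mem (add_mem (Submodule.mem_sup_left (Submodule.smul_mem (Submodule.span A[X] (Set.range u)) _ hp)) ?_)
        (Submodule.mem_sup_right (hX z hz))
      show (X : A[X]) ^ K • ((X : A[X]) • y) ∈ U
      rw [← mul_smul, ← pow_succ]
      exact hK y
    obtain ⟨p, hp, z, hz, e⟩ := Submodule.mem_sup.mp h4
    obtain ⟨c, hc⟩ := Submodule.mem_span_range_iff_exists_fun _ |>.mp hp
    rw [show (X : A[X]) ^ K • x = ∑ i, c i • u' i + ((X : A[X]) ^ K • x - ∑ i, c i • u' i) by abel]
    refine add_mem (Submodule.mem_sup_left (Submodule.sum_mem (Submodule.span A[X] (Set.range u'))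
      fun i _ => Submodule.smul_mem _ _ (Submodule.subset_span ⟨i, rfl⟩)))
      (Submodule.mem_sup_right (hpure _ ?_))
    have hcu : ∑ i, c i • ((u' i : N) - u i) ∈ 𝔪 • (⊤ : Submodule A N) := by
      refine Submodule.sum_mem _ fun i _ => ?_
      have := Submodule.mem_map_of_mem (f := ((LinearMap.lsmul A[X] N) (c i)).restrictScalars A) (hu' i)
      rw [Submodule.map_smul''] at this
      exact Submodule.smul_mono le_rfl le_top this
    have e2 : (((X : A[X]) ^ K • x - ∑ i, c i • u' i : N') : N) = z - ∑ i, c i • ((u' i : N) - u i) := by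
      simp only [Submodule.coe_sub, Submodule.coe_smul, Submodule.coe_sum, smul_sub,
        Finset.sum_sub_distrib, ← e, ← hc]
      abel
    rw [e2]
    exact sub_mem hz hcu

theorem exists_decomp (c : LaurentPolynomial A) :
    ∃ p q : A[X], c = σ₁ p + σ₂ q := by
  refine c.induction_on' ?_ fun n a => ?_
  · rintro c d ⟨p, q, rfl⟩ ⟨p', q', rfl⟩
    exact ⟨p + p', q + q', by rw [map_add, map_add]; abel⟩
  · rcases Int.eq_nat_or_neg n with ⟨k, rfl | rfl⟩
    · exact ⟨C a * X ^ k, 0, by rw [map_mul, map_zero, add_zero, σ₁_X_pow, σ₁_C]; rfl⟩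
    · exact ⟨0, C a * X ^ k, by rw [map_mul, map_zero, zero_add, σ₂_X_pow, σ₂_C]; rfl⟩

/-- Given a basis of the closed fibre on the affine line, the bundle is free there. -/
theorem free_of_gluing {M : Type u} [AddCommGroup M] [Module A[X] M] [Module A M]
    [IsScalarTower A A[X] M] [Module.Finite A[X] M] [Module.Projective A[X] M]
    {N : Type u} [AddCommGroup N] [Module A[X] N] [Module A N] [IsScalarTower A A[X] N]
    [Module.Finite A[X] N] [Module.Projective A[X] N]
    (jM : M →ₛₗ[σ₁ (A := A)] W) (hM : IsChart jM) (jN : N →ₛₗ[σ₂ (A := A)] W) (hN : IsChart jN)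
    {n : ℕ} (e : Fin n → M) (u : Fin n → N)
    (hgen : ∀ x : M, x ∈ (Submodule.span A[X] (Set.range e)).restrictScalars A ⊔ 𝔪 • (⊤ : Submodule A M))
    (hind : ∀ p : Fin n → A[X], ∑ i, p i • e i ∈ 𝔪 • (⊤ : Submodule A M) →
      p ∈ 𝔪 • (⊤ : Submodule A (Fin n → A[X])))
    (hglue : ∀ i, jM (e i) - jN (u i) ∈ 𝔪 • (⊤ : Submodule A W))
    (hNgen : ∀ x : N, x ∈ (Submodule.span A[X] (Set.range u)).restrictScalars A ⊔ 𝔪 • (⊤ : Submodule A N)) :
    Module.Free A[X] M := by
  classical
  let φM : M →ₗ[A] W :=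
    { toFun := jM, map_add' := map_add jM, map_smul' := fun a x => smul_scalar σ₁_C jM a x }
  let φN : N →ₗ[A] W :=
    { toFun := jN, map_add' := map_add jN, map_smul' := fun a x => smul_scalar σ₂_C jN a x }
  let Φ : (M × N) →ₗ[A] W := φM.coprod φN
  have hΦM : ∀ x, jM x ∈ LinearMap.range Φ := fun x => ⟨(x, 0), by simp [Φ, φM]⟩
  have hΦN : ∀ x, jN x ∈ LinearMap.range Φ := fun x => ⟨(0, x), by simp [Φ, φN]⟩
  have hσmW : ∀ (c : LaurentPolynomial A) w, w ∈ 𝔪 • (⊤ : Submodule A W) →
      c • w ∈ 𝔪 • (⊤ : Submodule A W) := by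
    intro c w hw
    have := Submodule.mem_map_of_mem
      (f := ((LinearMap.lsmul (LaurentPolynomial A) W) c).restrictScalars A) hw
    rw [Submodule.map_smul''] at this
    exact Submodule.smul_mono le_rfl le_top this
  -- surjectivity of `Φ`
  have hΦ : LinearMap.range Φ = ⊤ := by
    obtain ⟨r, gM, hgM⟩ := Module.Finite.exists_fin' A[X] M
    obtain ⟨L, hL⟩ := hN.absorb_finset Finset.univ fun l => jM (gM (Pi.single l 1))
    let gW : Fin r × Fin L → W := fun la =>
      (LaurentPolynomial.T (-(la.2 : ℤ)) : LaurentPolynomial A) • jM (gM (Pi.single la.1 1))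
    have hbig : ∀ (l : Fin r) (k : ℤ),
        (LaurentPolynomial.T k : LaurentPolynomial A) • jM (gM (Pi.single l 1)) ∈
          LinearMap.range Φ ⊔ Submodule.span A (Set.range gW) := by
      intro l k
      rcases Int.eq_nat_or_neg k with ⟨a, rfl | rfl⟩
      · refine Submodule.mem_sup_left ?_
        rw [← σ₁_X_pow, ← map_smulₛₗ]
        exact hΦM _
      · by_cases ha : a < L
        · exact Submodule.mem_sup_right (Submodule.subset_span ⟨(l, ⟨a, ha⟩), rfl⟩)
        · refine Submodule.mem_sup_left ?_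
          obtain ⟨x, hx⟩ := IsChart.mono (a - L) (hL l (Finset.mem_univ l))
          rw [Nat.sub_add_cancel (by omega), σ₂_X_pow] at hx
          rw [← hx]
          exact hΦN _
    have htop : (⊤ : Submodule A W) ≤ LinearMap.range Φ ⊔ Submodule.span A (Set.range gW) := by
      intro w _
      obtain ⟨k, x, hx⟩ := hM.absorb w
      have hw : w = (LaurentPolynomial.T (-(k : ℤ)) : LaurentPolynomial A) • jM x := by
        rw [hx, σ₁_X_pow, ← mul_smul, T_mul_T]
        simp
      obtain ⟨p, rfl⟩ := hgM x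
      rw [hw, pi_eq_sum_univ' p, map_sum, map_sum, Finset.smul_sum]
      refine Submodule.sum_mem _ fun l _ => ?_
      rw [map_smul, map_smulₛₗ]
      induction p l using Polynomial.induction_on' with
      | add a b ha hb =>
        rw [map_add, add_smul, smul_add]
        exact add_mem ha hb
      | monomial m a =>
        rw [← C_mul_X_pow_eq_monomial, map_mul, σ₁_C, mul_smul, algebraMap_smul, smul_comm,
          σ₁_X_pow, ← mul_smul, T_mul_T]
        exact Submodule.smul_mem _ _ (hbig l _)
    have hres : (⊤ : Submodule A W) ≤ LinearMap.range Φ ⊔ 𝔪 • (⊤ : Submodule A W) := by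
      intro w _
      obtain ⟨k, x, hx⟩ := hM.absorb w
      obtain ⟨a, ha, z, hz, rfl⟩ := Submodule.mem_sup.mp (hgen x)
      obtain ⟨p, hp⟩ := Submodule.mem_span_range_iff_exists_fun _ |>.mp ha
      have hw : w = (LaurentPolynomial.T (-(k : ℤ)) : LaurentPolynomial A) • jM (a + z) := by
        rw [hx, σ₁_X_pow, ← mul_smul, T_mul_T]
        simp
      rw [hw, map_add, smul_add, ← hp, map_sum, Finset.smul_sum]
      refine add_mem (Submodule.sum_mem _ fun i _ => ?_)
        (Submodule.mem_sup_right (hσmW _ _ (mem_smul_top_of_mem σ₁_C jM _ hz)))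
      rw [map_smulₛₗ, ← mul_smul]
      obtain ⟨f, g, hfg⟩ := exists_decomp (LaurentPolynomial.T (-(k : ℤ)) * σ₁ (p i))
      rw [hfg, add_smul, ← map_smulₛₗ]
      refine add_mem (Submodule.mem_sup_left (hΦM _)) ?_
      rw [show σ₂ g • jM (e i) = jN (g • u i) + σ₂ g • (jM (e i) - jN (u i)) by
        rw [map_smulₛₗ, smul_sub]; abel]
      exact add_mem (Submodule.mem_sup_left (hΦN _)) (Submodule.mem_sup_right (hσmW _ _ (hglue i)))
    have hfgC : Module.Finite A (W ⧸ LinearMap.range Φ) := by
      refine Module.Finite.of_fg_top ⟨Finset.univ.image (fun la => (LinearMap.range Φ).mkQ (gW la)), ?_⟩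
      refine eq_top_iff.mpr fun z _ => ?_
      obtain ⟨w, rfl⟩ := (LinearMap.range Φ).mkQ_surjective z
      obtain ⟨a, ha, b, hb, rfl⟩ := Submodule.mem_sup.mp (htop (Submodule.mem_top : w ∈ ⊤))
      rw [map_add, show (LinearMap.range Φ).mkQ a = 0 from (Submodule.Quotient.mk_eq_zero _).mpr ha,
        zero_add]
      have := Submodule.mem_map_of_mem (f := (LinearMap.range Φ).mkQ) hb
      rw [Submodule.map_span, ← Set.range_comp] at this
      refine Submodule.span_mono ?_ this
      rintro _ ⟨la, rfl⟩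
      exact Finset.mem_coe.mpr (Finset.mem_image_of_mem _ (Finset.mem_univ la))
    have hbot : (⊤ : Submodule A (W ⧸ LinearMap.range Φ)) = ⊥ := by
      refine Submodule.eq_bot_of_le_smul_of_le_jacobson_bot 𝔪 _ Module.Finite.fg_top ?_
        (IsLocalRing.maximalIdeal_le_jacobson ⊥)
      intro z _
      obtain ⟨w, rfl⟩ := (LinearMap.range Φ).mkQ_surjective z
      obtain ⟨a, ha, b, hb, rfl⟩ := Submodule.mem_sup.mp (hres (Submodule.mem_top : w ∈ ⊤))
      rw [map_add, show (LinearMap.range Φ).mkQ a = 0 from (Submodule.Quotient.mk_eq_zero _).mpr ha,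
        zero_add]
      have := Submodule.mem_map_of_mem (f := (LinearMap.range Φ).mkQ) hb
      rw [Submodule.map_smul''] at this
      exact Submodule.smul_mono le_rfl le_top this
    rw [eq_top_iff]
    intro w _
    rw [← Submodule.Quotient.mk_eq_zero, ← Submodule.mem_bot A, ← hbot]
    exact Submodule.mem_top
  -- lift the basis
  have hlift : ∀ i, ∃ (e' : M) (u' : N), jM e' = jN u' ∧ e' - e i ∈ 𝔪 • (⊤ : Submodule A M) ∧
      u' - u i ∈ 𝔪 • (⊤ : Submodule A N) := by
    intro i
    have h1 := hglue i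
    rw [← hΦ, ← Submodule.map_top, ← Submodule.map_smul''] at h1
    obtain ⟨⟨a, b⟩, hab, e1⟩ := h1
    have ha : a ∈ 𝔪 • (⊤ : Submodule A M) := by
      have := Submodule.mem_map_of_mem (f := LinearMap.fst A M N) hab
      rw [Submodule.map_smul''] at this
      exact Submodule.smul_mono le_rfl le_top this
    have hb : b ∈ 𝔪 • (⊤ : Submodule A N) := by
      have := Submodule.mem_map_of_mem (f := LinearMap.snd A M N) hab
      rw [Submodule.map_smul''] at this
      exact Submodule.smul_mono le_rfl le_top this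
    have e2 : jM a + jN b = jM (e i) - jN (u i) := e1
    refine ⟨e i - a, u i + b, ?_, by simpa using neg_mem ha, by simpa using hb⟩
    rw [map_sub, map_add, sub_eq_iff_eq_add]
    rw [eq_sub_iff_add_eq] at e2
    rw [← e2]
    abel
  choose e' u' hglue' he' hu' using hlift
  have hgen' : ∀ x : M, x ∈ (Submodule.span A[X] (Set.range e')).restrictScalars A ⊔ 𝔪 • (⊤ : Submodule A M) := by
    intro x
    obtain ⟨a, ha, z, hz, rfl⟩ := Submodule.mem_sup.mp (hgen x)
    obtain ⟨p, rfl⟩ := Submodule.mem_span_range_iff_exists_fun _ |>.mp ha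
    rw [show ∑ i, p i • e i + z = ∑ i, p i • e' i + (∑ i, p i • (e i - e' i) + z) by
      simp only [smul_sub, Finset.sum_sub_distrib]; abel]
    refine add_mem (Submodule.mem_sup_left (Submodule.sum_mem (Submodule.span A[X] (Set.range e'))
      fun i _ => Submodule.smul_mem _ _ (Submodule.subset_span ⟨i, rfl⟩)))
      (Submodule.mem_sup_right (add_mem (Submodule.sum_mem _ fun i _ => ?_) hz))
    have := Submodule.mem_map_of_mem (f := ((LinearMap.lsmul A[X] M) (p i)).restrictScalars A)
      (neg_mem (he' i))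
    rw [Submodule.map_smul'', neg_sub] at this
    exact Submodule.smul_mono le_rfl le_top this
  -- the cokernel at infinity is killed by a polynomial with unit constant term
  have hkill : ∃ b : A[X], IsUnit (b.coeff 0) ∧ ∀ x : N, b • x ∈ Submodule.span A[X] (Set.range u') := by
    let P := Submodule.span A[X] (Set.range u')
    let J : Ideal A[X] := Ideal.map C 𝔪
    have hle : (⊤ : Submodule A[X] (N ⧸ P)) ≤ J • ⊤ := by
      intro z _
      obtain ⟨x, rfl⟩ := P.mkQ_surjective z
      obtain ⟨a, ha, y, hy, rfl⟩ := Submodule.mem_sup.mp (hNgen x)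
      obtain ⟨p, rfl⟩ := Submodule.mem_span_range_iff_exists_fun _ |>.mp ha
      have hJ : ∀ y ∈ 𝔪 • (⊤ : Submodule A N), P.mkQ y ∈ J • (⊤ : Submodule A[X] (N ⧸ P)) := by
        intro y hy
        refine Submodule.smul_induction_on hy (fun a ha y _ => ?_) (fun y z hy hz => by
          rw [map_add]; exact add_mem hy hz)
        rw [← algebraMap_smul A[X] a y, map_smul, Polynomial.algebraMap_eq]
        exact Submodule.smul_mem_smul (Ideal.mem_map_of_mem C ha) Submodule.mem_top
      rw [map_add]
      refine add_mem ?_ (hJ y hy)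
      rw [map_sum]
      refine Submodule.sum_mem _ fun i _ => ?_
      rw [map_smul, show u i = u' i - (u' i - u i) by abel, map_sub]
      refine Submodule.smul_mem _ _ (sub_mem ?_ (hJ _ (hu' i)))
      rw [show P.mkQ (u' i) = 0 from (Submodule.Quotient.mk_eq_zero P).mpr (Submodule.subset_span ⟨i, rfl⟩)]
      exact zero_mem _
    obtain ⟨b, hb1, hb⟩ := Submodule.exists_sub_one_mem_and_smul_eq_zero_of_fg_of_le_smul J
      (⊤ : Submodule A[X] (N ⧸ P)) Module.Finite.fg_top hle
    refine ⟨b, ?_, fun x => (Submodule.Quotient.mk_eq_zero P).mp ?_⟩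
    · have h0 := (Ideal.mem_map_C_iff.mp hb1) 0
      rw [coeff_sub, coeff_one_zero] at h0
      by_contra hu
      exact (maximalIdeal.isMaximal A).ne_top ((Ideal.eq_top_iff_one _).mpr
        (by simpa using sub_mem ((mem_maximalIdeal _).mpr hu) h0))
    · exact (map_smul P.mkQ b x).trans (hb _ Submodule.mem_top)
  obtain ⟨b, hb0, hb⟩ := hkill
  let P := Submodule.span A[X] (Set.range e')
  let f : A[X] := C (↑hb0.unit⁻¹ : A) * b.reverse
  have hnt : b.natTrailingDegree = 0 := natTrailingDegree_eq_zero.mpr (Or.inr hb0.ne_zero)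
  have hlead : b.reverse.leadingCoeff = b.coeff 0 := by
    rw [reverse_leadingCoeff, trailingCoeff, hnt]
  have hfmon : f.Monic := by
    refine monic_C_mul_of_mul_leadingCoeff_eq_one ?_
    rw [hlead]
    exact hb0.val_inv_mul
  have hkillM : ∀ x : M, ∃ k : ℕ, ((X : A[X]) ^ k * f) • x ∈ P := by
    intro x
    obtain ⟨k, y, hy⟩ := hN.absorb (jM x)
    obtain ⟨q, hq⟩ := Submodule.mem_span_range_iff_exists_fun _ |>.mp (hb y)
    -- write each `σ₂ (q i)` as a Laurent polynomial with bounded denominators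
    choose a q' hq' using fun i => (σ₂ (q i)).exists_T_pow
    let c := Finset.univ.sup a
    let p : Fin n → A[X] := fun i => X ^ (b.natDegree + (c - a i)) * q' i
    refine ⟨c, ?_⟩
    have hmem : ∀ l : ℕ, l = c → ((X : A[X]) ^ l * b.reverse) • x = (X : A[X]) ^ k • ∑ i, p i • e' i := by
      rintro _ rfl
      apply hM.inj
      rw [map_smulₛₗ, map_smulₛₗ, map_sum, map_mul, σ₁_X_pow, σ₁_X_pow]
      have hrev : σ₁ b.reverse = LaurentPolynomial.T (b.natDegree : ℤ) * σ₂ b := by
        rw [σ₁, LaurentPolynomial.toLaurent_reverse, mul_comm]; rfl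
      have hxy : jM x = (LaurentPolynomial.T (k : ℤ) : LaurentPolynomial A) • jN y := by
        rw [hy, σ₂_X_pow, ← mul_smul, T_mul_T]
        simp
      rw [hrev, hxy, mul_smul, mul_smul, smul_comm (σ₂ b), ← map_smulₛₗ, ← hq, map_sum,
        Finset.smul_sum, Finset.smul_sum, Finset.smul_sum, Finset.smul_sum]
      refine Finset.sum_congr rfl fun i _ => ?_
      have hpi : σ₁ (p i) = LaurentPolynomial.T ((b.natDegree + (c - a i) : ℕ) : ℤ) *
          (σ₂ (q i) * LaurentPolynomial.T (a i : ℤ)) := by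
        rw [map_mul, σ₁_X_pow, ← hq' i]
      rw [map_smulₛₗ, map_smulₛₗ, ← hglue' i, hpi]
      simp only [← mul_smul]
      congr 1
      have hai : a i ≤ c := Finset.le_sup (f := a) (Finset.mem_univ i)
      calc LaurentPolynomial.T (c : ℤ) * (LaurentPolynomial.T (b.natDegree : ℤ) *
            (LaurentPolynomial.T (k : ℤ) * σ₂ (q i)))
          = σ₂ (q i) * (LaurentPolynomial.T (c : ℤ) * LaurentPolynomial.T (b.natDegree : ℤ) *
              LaurentPolynomial.T (k : ℤ)) := by ring
        _ = σ₂ (q i) * (LaurentPolynomial.T (k : ℤ) *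
              LaurentPolynomial.T ((b.natDegree + (c - a i) : ℕ) : ℤ) *
              LaurentPolynomial.T (a i : ℤ)) := by
            rw [T_mul_T, T_mul_T, T_mul_T, T_mul_T]
            congr 2
            push_cast [Nat.cast_sub hai]
            ring
        _ = _ := by ring
    have h3 : (X : A[X]) ^ k • ∑ i, p i • e' i ∈ P :=
      Submodule.smul_mem _ _ (Submodule.sum_mem _ fun i _ =>
        Submodule.smul_mem _ _ (Submodule.subset_span ⟨i, rfl⟩))
    rw [show (X : A[X]) ^ c * f = C (↑hb0.unit⁻¹ : A) * (X ^ c * b.reverse) by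
      simp only [f]; ring, mul_smul, hmem c rfl]
    exact Submodule.smul_mem _ _ h3
  -- hence the cokernel on the affine line is finite over `A`, so zero
  have hPtop : P = ⊤ := by
    obtain ⟨r, gM, hgM⟩ := Module.Finite.exists_fin' A[X] M
    choose k hk using fun l => hkillM (gM (Pi.single l 1))
    let K := Finset.univ.sup k
    let F : A[X] := X ^ K * f
    have hFmon : F.Monic := (monic_X_pow K).mul hfmon
    have hFkill : ∀ l, F • gM (Pi.single l 1) ∈ P := by
      intro l
      obtain ⟨m, hm⟩ := Nat.exists_eq_add_of_le (Finset.le_sup (f := k) (Finset.mem_univ l))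
      rw [show F = X ^ m * (X ^ k l * f) by simp only [F, K, hm]; ring, mul_smul]
      exact Submodule.smul_mem _ _ (hk l)
    let gQ : Fin r × Fin (F.natDegree + 1) → M ⧸ P := fun la =>
      P.mkQ ((X : A[X]) ^ (la.2 : ℕ) • gM (Pi.single la.1 1))
    have hfin : Module.Finite A (M ⧸ P) := by
      refine Module.Finite.of_fg_top ⟨Finset.univ.image gQ, ?_⟩
      refine eq_top_iff.mpr fun z _ => ?_
      obtain ⟨x, rfl⟩ := P.mkQ_surjective z
      obtain ⟨p, rfl⟩ := hgM x
      rw [pi_eq_sum_univ' p, map_sum, map_sum]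
      refine Submodule.sum_mem _ fun l _ => ?_
      rw [map_smul, show p l • gM (Pi.single l 1) =
          (p l %ₘ F) • gM (Pi.single l 1) + (p l /ₘ F) • (F • gM (Pi.single l 1)) by
        rw [← mul_smul, ← add_smul, mul_comm, modByMonic_add_div], map_add,
        show P.mkQ ((p l /ₘ F) • (F • gM (Pi.single l 1))) = 0 from
          (Submodule.Quotient.mk_eq_zero P).mpr (Submodule.smul_mem _ _ (hFkill l)), add_zero]
      have hlt : (p l %ₘ F).natDegree < F.natDegree + 1 :=
        Nat.lt_succ_of_le (natDegree_modByMonic_le _ hFmon)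
      rw [as_sum_range_C_mul_X_pow' (p l %ₘ F) hlt, Finset.sum_smul, map_sum]
      refine Submodule.sum_mem _ fun m hm => ?_
      rw [mul_smul, ← Polynomial.algebraMap_eq, algebraMap_smul, LinearMap.map_smul_of_tower]
      exact Submodule.smul_mem _ _ (Submodule.subset_span (Finset.mem_coe.mpr
        (Finset.mem_image.mpr ⟨(l, ⟨m, Finset.mem_range.mp hm⟩), Finset.mem_univ _, rfl⟩)))
    have hbot : (⊤ : Submodule A (M ⧸ P)) = ⊥ := by
      refine Submodule.eq_bot_of_le_smul_of_le_jacobson_bot 𝔪 _ Module.Finite.fg_top ?_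
        (IsLocalRing.maximalIdeal_le_jacobson ⊥)
      intro z _
      obtain ⟨x, rfl⟩ := P.mkQ_surjective z
      obtain ⟨a, ha, y, hy, rfl⟩ := Submodule.mem_sup.mp (hgen' x)
      rw [map_add, show P.mkQ a = 0 from (Submodule.Quotient.mk_eq_zero P).mpr ha, zero_add]
      have := Submodule.mem_map_of_mem (f := P.mkQ.restrictScalars A) hy
      rw [Submodule.map_smul''] at this
      exact Submodule.smul_mono le_rfl le_top this
    rw [eq_top_iff]
    intro x _
    rw [← Submodule.Quotient.mk_eq_zero]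
    exact (Submodule.mem_bot A).mp (hbot ▸ Submodule.mem_top)
  -- independence
  let π : (Fin n → A[X]) →ₗ[A[X]] M := Fintype.linearCombination A[X] e'
  have hsurj : Function.Surjective π := by
    rw [← LinearMap.range_eq_top, Fintype.range_linearCombination]
    exact hPtop
  obtain ⟨s, hs⟩ := Module.projective_lifting_property π LinearMap.id hsurj
  let Kr := LinearMap.ker π
  let pr : (Fin n → A[X]) →ₗ[A[X]] Kr := LinearMap.codRestrict Kr (LinearMap.id - s.comp π) (fun x => by
    rw [LinearMap.mem_ker, LinearMap.sub_apply, map_sub, LinearMap.comp_apply, ← LinearMap.comp_apply π s, hs]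
    simp)
  have hpr : ∀ x : Kr, pr x = x := fun x => Subtype.ext (by
    simp [pr, show π (x : Fin n → A[X]) = 0 from x.2])
  have : Module.Finite A[X] Kr := Module.Finite.of_surjective pr fun x => ⟨x, hpr x⟩
  have hle : (⊤ : Submodule A[X] Kr) ≤ Ideal.map C 𝔪 • ⊤ := by
    intro x _
    have hx0 : ∑ i, (x : Fin n → A[X]) i • e' i = 0 := by
      rw [← Fintype.linearCombination_apply A[X] e']
      exact LinearMap.mem_ker.mp x.2
    have h1 : ∑ i, (x : Fin n → A[X]) i • e i ∈ 𝔪 • (⊤ : Submodule A M) := by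
      rw [show ∑ i, (x : Fin n → A[X]) i • e i =
        ∑ i, (x : Fin n → A[X]) i • (e i - e' i) by simp [smul_sub, Finset.sum_sub_distrib, hx0]]
      refine Submodule.sum_mem _ fun i _ => ?_
      have := Submodule.mem_map_of_mem
        (f := ((LinearMap.lsmul A[X] M) ((x : Fin n → A[X]) i)).restrictScalars A) (neg_mem (he' i))
      rw [Submodule.map_smul'', neg_sub] at this
      exact Submodule.smul_mono le_rfl le_top this
    have h2 := Submodule.mem_map_of_mem (f := pr.restrictScalars A) (hind _ h1)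
    rw [Submodule.map_smul'', LinearMap.restrictScalars_apply, hpr] at h2
    refine Submodule.smul_induction_on h2 (fun a ha y _ => ?_) (fun y z hy hz => add_mem hy hz)
    rw [← algebraMap_smul A[X] a y, Polynomial.algebraMap_eq]
    exact Submodule.smul_mem_smul (Ideal.mem_map_of_mem C ha) Submodule.mem_top
  obtain ⟨a, ha1, ha⟩ := Submodule.exists_sub_one_mem_and_smul_eq_zero_of_fg_of_le_smul
    (Ideal.map C 𝔪) (⊤ : Submodule A[X] Kr) Module.Finite.fg_top hle
  have ha0 : IsUnit (a.coeff 0) := by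
    have h0 := (Ideal.mem_map_C_iff.mp ha1) 0
    rw [coeff_sub, coeff_one_zero] at h0
    by_contra hu
    exact (maximalIdeal.isMaximal A).ne_top ((Ideal.eq_top_iff_one _).mpr
      (by simpa using sub_mem ((mem_maximalIdeal _).mpr hu) h0))
  have hinj : Function.Injective π := by
    refine (injective_iff_map_eq_zero π).mpr fun x hx => funext fun i => ?_
    have h := congrFun (congrArg Subtype.val (ha ⟨x, hx⟩ Submodule.mem_top)) i
    simp only [Submodule.coe_smul, Pi.smul_apply, smul_eq_mul, Submodule.coe_zero, Pi.zero_apply] at h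
    exact eq_zero_of_mul_unit_coeff ha0 h
  exact Module.Free.of_equiv (LinearEquiv.ofBijective π ⟨hinj, hsurj⟩)

theorem sum_smul_sub_mem {M : Type u} [AddCommGroup M] [Module A[X] M] [Module A M]
    [IsScalarTower A A[X] M] {n : ℕ} (c : Fin n → A[X]) (v : Fin n → M)
    (hv : ∀ i, v i ∈ 𝔪 • (⊤ : Submodule A M)) : ∑ i, c i • v i ∈ 𝔪 • (⊤ : Submodule A M) := by
  refine Submodule.sum_mem _ fun i _ => ?_
  have := Submodule.mem_map_of_mem (f := ((LinearMap.lsmul A[X] M) (c i)).restrictScalars A) (hv i)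
  rw [Submodule.map_smul''] at this
  exact Submodule.smul_mono le_rfl le_top this

theorem mem_map_C_smul_top {M : Type u} [AddCommGroup M] [Module A[X] M] [Module A M]
    [IsScalarTower A A[X] M] (x : M) :
    x ∈ Ideal.map C 𝔪 • (⊤ : Submodule A[X] M) ↔ x ∈ 𝔪 • (⊤ : Submodule A M) := by
  constructor
  · intro h
    refine Submodule.smul_induction_on h (fun p hp y _ => ?_) (fun y z hy hz => add_mem hy hz)
    rw [p.as_sum_range_C_mul_X_pow, Finset.sum_smul]
    refine Submodule.sum_mem _ fun i _ => ?_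
    rw [mul_smul, ← Polynomial.algebraMap_eq, algebraMap_smul]
    exact Submodule.smul_mem_smul (Ideal.mem_map_C_iff.mp hp i) Submodule.mem_top
  · intro h
    refine Submodule.smul_induction_on h (fun a ha y _ => ?_) (fun y z hy hz => add_mem hy hz)
    rw [← algebraMap_smul A[X] a y, Polynomial.algebraMap_eq]
    exact Submodule.smul_mem_smul (Ideal.mem_map_of_mem C ha) Submodule.mem_top

theorem exists_closed_fibre_basis {M : Type u} [AddCommGroup M] [Module A[X] M] [Module A M]
    [IsScalarTower A A[X] M] [Module.Finite A[X] M] [Module.Projective A[X] M] :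
    ∃ (n : ℕ) (e : Fin n → M),
      (∀ x : M, x ∈ (Submodule.span A[X] (Set.range e)).restrictScalars A ⊔ 𝔪 • (⊤ : Submodule A M)) ∧
      (∀ p : Fin n → A[X], ∑ i, p i • e i ∈ 𝔪 • (⊤ : Submodule A M) →
        p ∈ 𝔪 • (⊤ : Submodule A (Fin n → A[X]))) := by
  classical
  let J : Ideal A[X] := Ideal.map C 𝔪
  have := (maximalIdeal.isMaximal A).isPrime
  have hJp : J.IsPrime := Ideal.isPrime_map_C_of_isPrime
  have : IsDomain (A[X] ⧸ J) := Ideal.Quotient.isDomain J
  let : Field (A ⧸ 𝔪) := Ideal.Quotient.field 𝔪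
  have : IsPrincipalIdealRing (A[X] ⧸ J) :=
    IsPrincipalIdealRing.of_surjective (Ideal.polynomialQuotientEquivQuotientPolynomial 𝔪).toRingHom
      (Ideal.polynomialQuotientEquivQuotientPolynomial 𝔪).surjective
  have hJM : ∀ x : M, x ∈ J • (⊤ : Submodule A[X] M) ↔ x ∈ 𝔪 • (⊤ : Submodule A M) :=
    mem_map_C_smul_top
  let Mb := M ⧸ J • (⊤ : Submodule A[X] M)
  have : Module.Finite (A[X] ⧸ J) Mb := Module.Finite.of_restrictScalars_finite A[X] _ _
  have htf : Module.IsTorsionFree (A[X] ⧸ J) Mb := by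
    refine .of_smul_eq_zero fun c z hz => ?_
    obtain ⟨r, π, hπ⟩ := Module.Finite.exists_fin' A[X] M
    obtain ⟨s, hs⟩ := Module.projective_lifting_property π LinearMap.id hπ
    obtain ⟨p, rfl⟩ := Ideal.Quotient.mk_surjective c
    obtain ⟨x, rfl⟩ := Submodule.Quotient.mk_surjective _ z
    by_cases hp : p ∈ J
    · exact Or.inl (Ideal.Quotient.eq_zero_iff_mem.mpr hp)
    refine Or.inr ?_
    have h1 : p • x ∈ J • (⊤ : Submodule A[X] M) := (Submodule.Quotient.mk_eq_zero _).mp hz
    have h2 : ∀ l, (s x) l ∈ J := by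
      intro l
      have h3 := Submodule.mem_map_of_mem (f := (LinearMap.proj l).comp s) h1
      rw [Submodule.map_smul''] at h3
      have h4 := Submodule.smul_mono le_rfl le_top h3
      rw [smul_eq_mul, Ideal.mul_top, map_smul, LinearMap.comp_apply, LinearMap.proj_apply,
        smul_eq_mul] at h4
      exact (hJp.mem_or_mem h4).resolve_left hp
    rw [Submodule.Quotient.mk_eq_zero, ← LinearMap.id_apply (R := A[X]) x, ← hs, LinearMap.comp_apply,
      pi_eq_sum_univ' (s x), map_sum]
    exact Submodule.sum_mem _ fun l _ => by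
      rw [map_smul]; exact Submodule.smul_mem_smul (h2 l) Submodule.mem_top
  have : Module.Free (A[X] ⧸ J) Mb := Module.free_of_finite_type_torsion_free'
  let b0 := Module.Free.chooseBasis (A[X] ⧸ J) Mb
  obtain ⟨n, ⟨b⟩⟩ : ∃ n, Nonempty (Module.Basis (Fin n) (A[X] ⧸ J) Mb) :=
    ⟨_, ⟨b0.reindex (Fintype.equivFin _)⟩⟩
  choose e he using fun i => Submodule.Quotient.mk_surjective _ (b i)
  refine ⟨n, e, fun x => ?_, fun p hp => ?_⟩
  · choose q hq using fun i => Ideal.Quotient.mk_surjective (b.repr (Submodule.Quotient.mk x) i)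
    rw [show x = ∑ i, q i • e i + (x - ∑ i, q i • e i) by abel]
    refine add_mem (Submodule.mem_sup_left (Submodule.sum_mem (Submodule.span A[X] (Set.range e))
      fun i _ => Submodule.smul_mem _ _ (Submodule.subset_span ⟨i, rfl⟩)))
      (Submodule.mem_sup_right ((hJM _).mp ?_))
    rw [← Submodule.Quotient.mk_eq_zero, ← Submodule.mkQ_apply, map_sub, sub_eq_zero, map_sum]
    refine (b.sum_repr _).symm.trans (Finset.sum_congr rfl fun i _ => ?_)
    rw [map_smul, Submodule.mkQ_apply, Submodule.mkQ_apply, he, ← hq i]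
    exact IsScalarTower.algebraMap_smul (A[X] ⧸ J) (q i) (b i)
  · have h1 := (hJM _).mpr hp
    rw [← Submodule.Quotient.mk_eq_zero, ← Submodule.mkQ_apply, map_sum] at h1
    have h2 : ∀ i, p i ∈ J := by
      intro i
      rw [← Ideal.Quotient.eq_zero_iff_mem]
      refine Fintype.linearIndependent_iff.mp b.linearIndependent (fun i => Ideal.Quotient.mk J (p i)) ?_ i
      refine Eq.trans (Finset.sum_congr rfl fun l _ => ?_) h1
      rw [map_smul, Submodule.mkQ_apply _ (e l), he]
      exact IsScalarTower.algebraMap_smul (A[X] ⧸ J) (p l) (b l)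
    rw [pi_eq_sum_univ' p]
    refine Submodule.sum_mem _ fun i _ => ?_
    exact (mem_map_C_smul_top _).mp (Submodule.smul_mem_smul (h2 i) Submodule.mem_top)

theorem free_of_gluing' {M : Type u} [AddCommGroup M] [Module A[X] M] [Module A M]
    [IsScalarTower A A[X] M] [Module.Finite A[X] M] [Module.Projective A[X] M]
    (jM : M →ₛₗ[σ₁ (A := A)] W) (hM : IsChart jM) {n : ℕ} (e : Fin n → M)
    (hgen : ∀ x : M, x ∈ (Submodule.span A[X] (Set.range e)).restrictScalars A ⊔ 𝔪 • (⊤ : Submodule A M))
    (hind : ∀ p : Fin n → A[X], ∑ i, p i • e i ∈ 𝔪 • (⊤ : Submodule A M) →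
      p ∈ 𝔪 • (⊤ : Submodule A (Fin n → A[X])))
    (K : ℕ) :
    ∀ {N : Type u} [AddCommGroup N] [Module A[X] N] [Module A N] [IsScalarTower A A[X] N]
      [Module.Finite A[X] N] [Module.Projective A[X] N] (jN : N →ₛₗ[σ₂ (A := A)] W)
      (_ : IsChart jN) (u : Fin n → N)
      (_ : ∀ i, jM (e i) - jN (u i) ∈ 𝔪 • (⊤ : Submodule A W))
      (_ : ∀ x : N, (X : A[X]) ^ K • x ∈
        (Submodule.span A[X] (Set.range u)).restrictScalars A ⊔ 𝔪 • (⊤ : Submodule A N)),
      Module.Free A[X] M := by
  induction K with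
  | zero =>
    intro N _ _ _ _ _ _ jN hN u hglue hK
    refine free_of_gluing jM hM jN hN e u hgen hind hglue fun x => ?_
    simpa using hK x
  | succ K ih =>
    intro N _ _ _ _ _ _ jN hN u hglue hK
    obtain ⟨N', u', hfin, hproj, hN', hu', hK'⟩ := step jN hN u K hK
    refine ih (jN.comp N'.subtype) hN' u' (fun i => ?_) hK'
    have h1 := mem_smul_top_of_mem σ₂_C jN _ (hu' i)
    rw [map_sub] at h1
    have h2 := sub_mem (hglue i) h1
    convert h2 using 1
    show jM (e i) - jN (u' i : N) = _
    abel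

/-- **Horrocks' theorem**, gluing form. -/
theorem free {M : Type u} [AddCommGroup M] [Module A[X] M] [Module A M]
    [IsScalarTower A A[X] M] [Module.Finite A[X] M] [Module.Projective A[X] M]
    {N : Type u} [AddCommGroup N] [Module A[X] N] [Module A N] [IsScalarTower A A[X] N]
    [Module.Finite A[X] N] [Module.Projective A[X] N]
    (jM : M →ₛₗ[σ₁ (A := A)] W) (hM : IsChart jM) (jN : N →ₛₗ[σ₂ (A := A)] W) (hN : IsChart jN) :
    Module.Free A[X] M := by
  classical
  obtain ⟨n, e, hgen, hind⟩ := exists_closed_fibre_basis (A := A) (M := M)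
  obtain ⟨K, hK⟩ := hN.absorb_finset Finset.univ fun i => jM (e i)
  choose u hu using fun i => hK i (Finset.mem_univ i)
  let jN' : N →ₛₗ[σ₂ (A := A)] W :=
    { toFun := fun y => (LaurentPolynomial.T (K : ℤ) : LaurentPolynomial A) • jN y
      map_add' := fun a b => by rw [map_add, smul_add]
      map_smul' := fun p y => by rw [map_smulₛₗ, smul_comm] }
  have hjN' : ∀ y, jN' y = (LaurentPolynomial.T (K : ℤ) : LaurentPolynomial A) • jN y := fun y => rfl
  have hTT : ∀ w : W, (LaurentPolynomial.T (K : ℤ) : LaurentPolynomial A) •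
      ((LaurentPolynomial.T (-(K : ℤ)) : LaurentPolynomial A) • w) = w := fun w => by
    rw [← mul_smul, T_mul_T]; simp
  have hTT' : ∀ w : W, (LaurentPolynomial.T (-(K : ℤ)) : LaurentPolynomial A) •
      ((LaurentPolynomial.T (K : ℤ) : LaurentPolynomial A) • w) = w := fun w => by
    rw [← mul_smul, T_mul_T]; simp
  have hN' : IsChart jN' := by
    refine ⟨fun a b h => hN.inj ?_, fun w => ?_⟩
    · have := congrArg (fun z => (LaurentPolynomial.T (-(K : ℤ)) : LaurentPolynomial A) • z) h
      simpa [hjN', hTT'] using this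
    · obtain ⟨k, y, hy⟩ := hN.absorb ((LaurentPolynomial.T (-(K : ℤ)) : LaurentPolynomial A) • w)
      refine ⟨k, y, ?_⟩
      rw [hjN', hy, smul_comm, hTT]
  have heu : ∀ i, jM (e i) = jN' (u i) := fun i => by rw [hjN', hu, σ₂_X_pow, hTT]
  -- the initial bound
  obtain ⟨r, π, hπ⟩ := Module.Finite.exists_fin' A[X] N
  have hex : ∀ y : N, ∃ k : ℕ, (X : A[X]) ^ k • y ∈
      (Submodule.span A[X] (Set.range u)).restrictScalars A ⊔ 𝔪 • (⊤ : Submodule A N) := by
    intro y
    obtain ⟨k, x, hx⟩ := hM.absorb (jN' y)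
    obtain ⟨a, ha, z, hz, rfl⟩ := Submodule.mem_sup.mp (hgen x)
    obtain ⟨p, rfl⟩ := Submodule.mem_span_range_iff_exists_fun _ |>.mp ha
    choose a q hq using fun i => (LaurentPolynomial.invert (σ₁ (p i))).exists_T_pow
    let c := Finset.univ.sup a
    let q' : Fin n → A[X] := fun i => X ^ (k + (c - a i)) * q i
    refine ⟨c, ?_⟩
    rw [show (X : A[X]) ^ c • y = ∑ i, q' i • u i + ((X : A[X]) ^ c • y - ∑ i, q' i • u i) by abel]
    refine add_mem (Submodule.mem_sup_left (Submodule.sum_mem (Submodule.span A[X] (Set.range u))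
      fun i _ => Submodule.smul_mem _ _ (Submodule.subset_span ⟨i, rfl⟩)))
      (Submodule.mem_sup_right (hN'.mem_smul_top σ₂_C _ ?_))
    have hz' := mem_smul_top_of_mem σ₁_C jM _ hz
    have hq' : ∀ i, σ₂ (q' i) = LaurentPolynomial.T (-((c : ℤ) + k)) * σ₁ (p i) := by
      intro i
      rw [map_mul, σ₂_X_pow]
      have hinv : σ₂ (q i) = σ₁ (p i) * LaurentPolynomial.T (-(a i : ℤ)) := by
        show LaurentPolynomial.invert (Polynomial.toLaurent (q i)) = _
        rw [hq i, map_mul, LaurentPolynomial.invert_T, LaurentPolynomial.involutive_invert (σ₁ (p i))]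
      have hai : a i ≤ c := Finset.le_sup (f := a) (Finset.mem_univ i)
      rw [hinv, mul_left_comm, T_mul_T, mul_comm]
      congr 2
      push_cast [Nat.cast_sub hai]
      ring
    have hy : jN' y = (LaurentPolynomial.T (-(k : ℤ)) : LaurentPolynomial A) • jM (∑ i, p i • e i + z) := by
      rw [hx, σ₁_X_pow, ← mul_smul, T_mul_T]; simp
    have key : jN' ((X : A[X]) ^ c • y - ∑ i, q' i • u i) =
        (LaurentPolynomial.T (-((c : ℤ) + k)) : LaurentPolynomial A) • jM z := by
      rw [map_sub, map_smulₛₗ, hy, map_add, map_sum, map_sum, σ₂_X_pow, ← mul_smul, T_mul_T,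
        smul_add, Finset.smul_sum]
      have h : ∀ i, jN' (q' i • u i) =
          (LaurentPolynomial.T (-((c : ℤ) + k)) : LaurentPolynomial A) • jM (p i • e i) := fun i => by
        rw [map_smulₛₗ, map_smulₛₗ, ← heu, hq', mul_smul]
      rw [Finset.sum_congr rfl fun i _ => h i, neg_add]
      abel
    rw [key]
    have := Submodule.mem_map_of_mem (f := ((LinearMap.lsmul (LaurentPolynomial A) W)
      (LaurentPolynomial.T (-((c : ℤ) + k)))).restrictScalars A) hz'
    rw [Submodule.map_smul''] at this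
    exact Submodule.smul_mono le_rfl le_top this
  choose k hk using fun l => hex (π (Pi.single l 1))
  refine free_of_gluing' jM hM e hgen hind (Finset.univ.sup k) jN' hN' u
    (fun i => by rw [heu, sub_self]; exact zero_mem _) fun y => ?_
  obtain ⟨p, rfl⟩ := hπ y
  rw [pi_eq_sum_univ' p, map_sum, Finset.smul_sum]
  refine Submodule.sum_mem _ fun l _ => ?_
  obtain ⟨m, hm⟩ := Nat.exists_eq_add_of_le (Finset.le_sup (f := k) (Finset.mem_univ l))
  rw [map_smul, ← mul_smul, hm, pow_add, mul_comm ((X : A[X]) ^ k l), mul_comm, ← mul_assoc, mul_smul]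
  obtain ⟨a, ha, z, hz, e1⟩ := Submodule.mem_sup.mp (hk l)
  rw [← e1, smul_add]
  refine add_mem (Submodule.mem_sup_left (Submodule.smul_mem (Submodule.span A[X] (Set.range u)) _ ha))
    (Submodule.mem_sup_right ?_)
  have := Submodule.mem_map_of_mem
    (f := ((LinearMap.lsmul A[X] N) (p l * X ^ m)).restrictScalars A) hz
  rw [Submodule.map_smul''] at this
  exact Submodule.smul_mono le_rfl le_top this

end local_ring

end Groth.Agent.CAlg9.Horrocks
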