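import Groth.Agent.CAlg9.Horrocks.Local

/-!
Quillen patching for idempotent matrices over `A[X]`, and the global form of Horrocks' theorem.
-/

set_option autoImplicit false

universe u

open Polynomial Matrix

namespace Groth.Agent.CAlg9.Horrocks

section Sim

variable {S T : Type u} [CommRing S] [CommRing T] {r : ℕ}

/-- Two idempotent matrices define isomorphic modules. -/
def Sim (E₁ E₂ : Matrix (Fin r) (Fin r) S) : Prop :=
  ∃ U V : Matrix (Fin r) (Fin r) S, E₁ * U = U ∧ E₂ * V = V ∧ U * V = E₁ ∧ V * U = E₂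

theorem Sim.refl {E : Matrix (Fin r) (Fin r) S} (h : E * E = E) : Sim E E :=
  ⟨E, E, h, h, h, h⟩

theorem Sim.trans {E₁ E₂ E₃ : Matrix (Fin r) (Fin r) S} (h₁ : Sim E₁ E₂) (h₂ : Sim E₂ E₃) :
    Sim E₁ E₃ := by
  obtain ⟨U, V, hU, hV, hUV, hVU⟩ := h₁
  obtain ⟨U', V', hU', hV', hUV', hVU'⟩ := h₂
  refine ⟨U * U', V' * V, by rw [← mul_assoc, hU], by rw [← mul_assoc, hV'], ?_, ?_⟩
  · rw [mul_assoc, ← mul_assoc U', hUV', hV, hUV]
  · rw [mul_assoc, ← mul_assoc V, hVU, hU', hVU']

theorem Sim.map {E₁ E₂ : Matrix (Fin r) (Fin r) S} (f : S →+* T) (h : Sim E₁ E₂) :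
    Sim (E₁.map f) (E₂.map f) := by
  obtain ⟨U, V, hU, hV, hUV, hVU⟩ := h
  exact ⟨U.map f, V.map f, by rw [← Matrix.map_mul, hU], by rw [← Matrix.map_mul, hV],
    by rw [← Matrix.map_mul, hUV], by rw [← Matrix.map_mul, hVU]⟩

end Sim

variable {A : Type u} [CommRing A] {r : ℕ}

/-- `t ↦ x + a y`. -/
noncomputable def θ (a : A) : A[X] →+* A[X][X] :=
  eval₂RingHom (Polynomial.C.comp Polynomial.C) (Polynomial.C X + Polynomial.C (Polynomial.C a) * X)

theorem θ_C (a b : A) : θ a (Polynomial.C b) = Polynomial.C (Polynomial.C b) := by simp [θ]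

theorem θ_X (a : A) : θ a X = Polynomial.C X + Polynomial.C (Polynomial.C a) * X := by simp [θ]

/-- `y ↦ c y`. -/
noncomputable def rescale (c : A) : A[X][X] →+* A[X][X] :=
  eval₂RingHom Polynomial.C (Polynomial.C (Polynomial.C c) * X)

/-- `x ↦ x + a y`, on two variable polynomials. -/
noncomputable def translate (a : A) : A[X][X] →+* A[X][X] := eval₂RingHom (θ a) X

theorem rescale_comp_θ (c a : A) : (rescale c).comp (θ a) = θ (c * a) := by
  refine Polynomial.ringHom_ext (fun b => ?_) ?_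
  · simp [θ, rescale]
  · simp only [θ, rescale, RingHom.comp_apply, coe_eval₂RingHom, eval₂_X, eval₂_add, eval₂_mul,
      eval₂_C, map_mul]
    ring

theorem translate_comp_θ (a b : A) : (translate a).comp (θ b) = θ (a + b) := by
  refine Polynomial.ringHom_ext (fun c => ?_) ?_
  · simp [θ, translate]
  · simp [θ, translate, add_mul, add_assoc]

theorem const_comp_θ (a : A) : (constantCoeff : A[X][X] →+* A[X]).comp (θ a) = RingHom.id _ := by
  refine Polynomial.ringHom_ext (fun b => ?_) ?_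
  · simp [θ]
  · simp [θ]

theorem map_map_hom {S T U : Type u} [CommRing S] [CommRing T] [CommRing U] {m n : ℕ}
    (M : Matrix (Fin m) (Fin n) S) (f : S →+* T) (g : T →+* U) :
    (M.map f).map g = M.map (g.comp f) := by
  ext i j; rfl

theorem map_smul_hom {S T : Type u} [CommRing S] [CommRing T] {m n : ℕ}
    (M : Matrix (Fin m) (Fin n) S) (f : S →+* T) (a : S) : (a • M).map f = f a • M.map f := by
  ext i j; simp

theorem exists_eq_X_smul {m n : ℕ} (Z : Matrix (Fin m) (Fin n) A[X][X])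
    (h : Z.map (constantCoeff : A[X][X] →+* A[X]) = 0) :
    ∃ G : Matrix (Fin m) (Fin n) A[X][X], Z = (X : A[X][X]) • G := by
  refine ⟨Matrix.of fun i j => (Z i j).divX, ?_⟩
  ext1 i j
  have h0 : (Z i j).coeff 0 = 0 := congrFun (congrFun h i) j
  rw [Matrix.smul_apply, Matrix.of_apply, smul_eq_mul]
  conv_lhs => rw [← X_mul_divX_add (Z i j), h0, map_zero, add_zero]

/-- Local triviality of `E` near a point gives one patching element. -/
theorem sim_cube {n : ℕ} (E : Matrix (Fin r) (Fin r) A[X]) (hE : E * E = E)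
    (P : Matrix (Fin r) (Fin n) A[X]) (Q : Matrix (Fin n) (Fin r) A[X]) (c : A)
    (hP : E * P = P) (hQ : Q * E = Q) (hPQ : P * Q = Polynomial.C c • E)
    (hQP : Q * P = Polynomial.C c • (1 : Matrix (Fin n) (Fin n) A[X])) :
    Sim (E.map (θ (0 : A))) (E.map (θ (c * c * c))) := by
  let cc : A[X][X] := Polynomial.C (Polynomial.C c)
  have hmap : ∀ a, (Polynomial.C c • E).map (θ a) = cc • E.map (θ a) := fun a => by
    rw [map_smul_hom, θ_C]
  have hev : ∀ {p q : ℕ} (M : Matrix (Fin p) (Fin q) A[X]) (a : A),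
      (M.map (θ a)).map (constantCoeff : A[X][X] →+* A[X]) = M := fun M a => by
    rw [map_map_hom, const_comp_θ]; rfl
  have hre : ∀ {p q : ℕ} (M : Matrix (Fin p) (Fin q) A[X]) (b a : A),
      (M.map (θ a)).map (rescale b) = M.map (θ (b * a)) := fun M b a => by
    rw [map_map_hom, rescale_comp_θ]
  have hccev : constantCoeff cc = Polynomial.C c := by simp [cc]
  have hzero : ∀ a b : A, (P.map (θ a) * Q.map (θ b) - cc • E.map (θ 0)).map
      (constantCoeff : A[X][X] →+* A[X]) = 0 := by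
    intro a b
    rw [Matrix.map_sub _ (map_sub constantCoeff), Matrix.map_mul, hev, hev, map_smul_hom, hev,
      hccev, hPQ, sub_self]
  have hstep : ∀ a b : A, ∃ U₀ : Matrix (Fin r) (Fin r) A[X][X],
      cc • U₀ = P.map (θ (c * a)) * Q.map (θ (c * b)) ∧
        U₀.map (constantCoeff : A[X][X] →+* A[X]) = E := by
    intro a b
    obtain ⟨G, hG⟩ := exists_eq_X_smul _ (hzero a b)
    refine ⟨E.map (θ 0) + (X : A[X][X]) • G.map (rescale c), ?_, ?_⟩
    · have h := congrArg (fun M : Matrix (Fin r) (Fin r) A[X][X] => M.map (rescale c)) hG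
      simp only [Matrix.map_sub _ (map_sub (rescale c)), Matrix.map_mul, hre, map_smul_hom,
        mul_zero] at h
      rw [show rescale c cc = cc by simp [cc, rescale],
        show rescale c X = cc * X by simp [cc, rescale]] at h
      rw [sub_eq_iff_eq_add] at h
      rw [h, smul_add, mul_smul, add_comm]
    · rw [Matrix.map_add _ (map_add constantCoeff), hev, map_smul_hom]
      simp
  obtain ⟨U₀, hU₀, hU₀0⟩ := hstep 0 1
  obtain ⟨V₀, hV₀, hV₀0⟩ := hstep 1 0
  rw [mul_zero, mul_one] at hU₀ hV₀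
  let E0 := E.map (θ (0 : A))
  let Ec := E.map (θ c)
  have hE0 : E0 * E0 = E0 := by rw [← Matrix.map_mul, hE]
  have hEc : Ec * Ec = Ec := by rw [← Matrix.map_mul, hE]
  let U := E0 * U₀ * Ec
  let V := Ec * V₀ * E0
  have hcU : cc • U = P.map (θ 0) * Q.map (θ c) := by
    rw [← Matrix.smul_mul, ← Matrix.mul_smul, hU₀, ← Matrix.mul_assoc, ← Matrix.map_mul, hP, Matrix.mul_assoc,
      ← Matrix.map_mul, hQ]
  have hcV : cc • V = P.map (θ c) * Q.map (θ 0) := by
    rw [← Matrix.smul_mul, ← Matrix.mul_smul, hV₀, ← Matrix.mul_assoc, ← Matrix.map_mul, hP, Matrix.mul_assoc,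
      ← Matrix.map_mul, hQ]
  have hone : ∀ a : A, Q.map (θ a) * P.map (θ a) =
      cc • (1 : Matrix (Fin n) (Fin n) A[X][X]) := fun a => by
    rw [← Matrix.map_mul, hQP, map_smul_hom, θ_C, Matrix.map_one _ (map_zero _) (map_one _)]
  have hUV2 : (cc * cc) • (U * V - E0) = 0 := by
    rw [smul_sub, mul_smul, ← Matrix.mul_smul, ← Matrix.smul_mul, hcU, hcV, Matrix.mul_assoc,
      ← Matrix.mul_assoc (Q.map (θ c)), hone, Matrix.smul_mul, Matrix.one_mul, Matrix.mul_smul,
      ← Matrix.map_mul, hPQ, hmap, mul_smul, sub_self]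
  have hVU2 : (cc * cc) • (V * U - Ec) = 0 := by
    rw [smul_sub, mul_smul, ← Matrix.mul_smul, ← Matrix.smul_mul, hcV, hcU, Matrix.mul_assoc,
      ← Matrix.mul_assoc (Q.map (θ 0)), hone, Matrix.smul_mul, Matrix.one_mul, Matrix.mul_smul,
      ← Matrix.map_mul, hPQ, hmap, mul_smul, sub_self]
  have hkill : ∀ D : Matrix (Fin r) (Fin r) A[X][X], (cc * cc) • D = 0 →
      D.map (constantCoeff : A[X][X] →+* A[X]) = 0 → D.map (rescale (c * c)) = 0 := by
    intro D hD h0
    obtain ⟨G, rfl⟩ := exists_eq_X_smul D h0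
    have hG : (cc * cc) • G = 0 := by
      ext1 i j
      have := congrFun (congrFun hD i) j
      simp only [Matrix.smul_apply, smul_eq_mul, Matrix.zero_apply] at this
      rw [Matrix.smul_apply, smul_eq_mul, Matrix.zero_apply]
      exact monic_X.isRegular.left (by
        show X * (cc * cc * G i j) = X * 0
        rw [mul_zero, mul_left_comm, this])
    have := congrArg (fun M : Matrix (Fin r) (Fin r) A[X][X] => M.map (rescale (c * c))) hG
    simp only [map_smul_hom, Matrix.map_zero _ (map_zero (rescale (c * c)))] at this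
    rw [show rescale (c * c) (cc * cc) = cc * cc by simp [cc, rescale]] at this
    rw [map_smul_hom, show rescale (c * c) X = X * (cc * cc) by
      simp [cc, rescale, mul_comm, mul_left_comm, mul_assoc], mul_smul, this, smul_zero]
  have hUV0 : (U * V - E0).map (constantCoeff : A[X][X] →+* A[X]) = 0 := by
    simp only [U, V, E0, Ec, Matrix.map_sub _ (map_sub constantCoeff), Matrix.map_mul, hev, hU₀0,
      hV₀0, hE, sub_self]
  have hVU0 : (V * U - Ec).map (constantCoeff : A[X][X] →+* A[X]) = 0 := by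
    simp only [U, V, E0, Ec, Matrix.map_sub _ (map_sub constantCoeff), Matrix.map_mul, hev, hU₀0,
      hV₀0, hE, sub_self]
  have hE0U : E0 * U = U := by simp only [U, ← Matrix.mul_assoc, hE0]
  have hEcV : Ec * V = V := by simp only [V, ← Matrix.mul_assoc, hEc]
  refine ⟨U.map (rescale (c * c)), V.map (rescale (c * c)), ?_, ?_, ?_, ?_⟩
  · rw [show E.map (θ (0 : A)) = E0.map (rescale (c * c)) by simp only [E0, hre, mul_zero],
      ← Matrix.map_mul, hE0U]
  · rw [show E.map (θ (c * c * c)) = Ec.map (rescale (c * c)) by simp only [Ec, hre],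
      ← Matrix.map_mul, hEcV]
  · rw [show E.map (θ (0 : A)) = E0.map (rescale (c * c)) by simp only [E0, hre, mul_zero],
      ← sub_eq_zero, ← Matrix.map_mul, ← Matrix.map_sub _ (map_sub _)]
    exact hkill _ hUV2 hUV0
  · rw [show E.map (θ (c * c * c)) = Ec.map (rescale (c * c)) by simp only [Ec, hre],
      ← sub_eq_zero, ← Matrix.map_mul, ← Matrix.map_sub _ (map_sub _)]
    exact hkill _ hVU2 hVU0

/-- Quillen patching. -/
theorem sim_const (E : Matrix (Fin r) (Fin r) A[X]) (hE : E * E = E)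
    (hloc : ∀ (m : Ideal A), m.IsMaximal → ∃ (c : A) (n : ℕ) (P : Matrix (Fin r) (Fin n) A[X])
      (Q : Matrix (Fin n) (Fin r) A[X]), c ∉ m ∧ E * P = P ∧ Q * E = Q ∧
        P * Q = Polynomial.C c • E ∧ Q * P = Polynomial.C c • (1 : Matrix (Fin n) (Fin n) A[X])) :
    Sim (E.map ((Polynomial.C).comp (evalRingHom (0 : A)))) E := by
  have hθ : ∀ a : A, E.map (θ a) * E.map (θ a) = E.map (θ a) := fun a => by
    rw [← Matrix.map_mul, hE]
  let I : Ideal A :=
    { carrier := {a | Sim (E.map (θ (0 : A))) (E.map (θ a))}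
      add_mem' := fun {a b} ha hb => by
        have h := Sim.map (translate a) hb
        rw [map_map_hom, map_map_hom, translate_comp_θ, translate_comp_θ, add_zero] at h
        exact Sim.trans ha h
      zero_mem' := Sim.refl (hθ 0)
      smul_mem' := fun b a ha => by
        have h := Sim.map (rescale b) ha
        rw [map_map_hom, map_map_hom, rescale_comp_θ, rescale_comp_θ, mul_zero] at h
        exact h }
  have hI : I = ⊤ := by
    by_contra hne
    obtain ⟨m, hm, hle⟩ := Ideal.exists_le_maximal I hne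
    obtain ⟨c, n, P, Q, hc, hP, hQ, hPQ, hQP⟩ := hloc m hm
    have h3 : c * c * c ∈ m := hle (sim_cube E hE P Q c hP hQ hPQ hQP)
    rcases hm.isPrime.mem_or_mem h3 with h2 | h1
    · rcases hm.isPrime.mem_or_mem h2 with h1 | h1 <;> exact hc h1
    · exact hc h1
  have h1' : (1 : A) ∈ I := by rw [hI]; exact Submodule.mem_top
  have h1 : Sim (E.map (θ (0 : A))) (E.map (θ (1 : A))) := h1'
  let η : A[X][X] →+* A[X] := eval₂RingHom ((Polynomial.C).comp (evalRingHom (0 : A))) X
  have h := Sim.map η h1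
  have e0 : η.comp (θ (0 : A)) = (Polynomial.C).comp (evalRingHom (0 : A)) :=
    Polynomial.ringHom_ext (fun b => by simp [η, θ]) (by simp [η, θ])
  have e1 : η.comp (θ (1 : A)) = RingHom.id _ :=
    Polynomial.ringHom_ext (fun b => by simp [η, θ]) (by simp [η, θ])
  rw [map_map_hom, map_map_hom, e0, e1] at h
  exact h

/-- Horrocks' theorem for idempotent matrices over a local ring. -/
theorem local_trivial [IsLocalRing A] {r' : ℕ} (E : Matrix (Fin r) (Fin r) A[X]) (hE : E * E = E)
    (F : Matrix (Fin r') (Fin r') A[X]) (hF : F * F = F)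
    (G : Matrix (Fin r) (Fin r') (LaurentPolynomial A)) (H : Matrix (Fin r') (Fin r) (LaurentPolynomial A))
    (hGH : G * H = E.map (σ₁ (A := A))) (hHG : H * G = F.map (σ₂ (A := A))) :
    ∃ (n : ℕ) (P : Matrix (Fin r) (Fin n) A[X]) (Q : Matrix (Fin n) (Fin r) A[X]),
      P * Q = E ∧ Q * P = 1 := by
  classical
  let M : Submodule A[X] (Fin r → A[X]) := LinearMap.range E.mulVecLin
  let N : Submodule A[X] (Fin r' → A[X]) := LinearMap.range F.mulVecLin
  let W : Submodule (LaurentPolynomial A) (Fin r → LaurentPolynomial A) :=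
    LinearMap.range (E.map (σ₁ (A := A))).mulVecLin
  have hfix : ∀ {p : ℕ} {S : Type u} [CommRing S] (K : Matrix (Fin p) (Fin p) S), K * K = K →
      ∀ v ∈ LinearMap.range K.mulVecLin, K *ᵥ v = v := by
    rintro p S _ K hK _ ⟨v, rfl⟩
    rw [Matrix.mulVecLin_apply, Matrix.mulVec_mulVec, hK]
  have hproj : ∀ {p : ℕ} (K : Matrix (Fin p) (Fin p) A[X]), K * K = K →
      Module.Finite A[X] (LinearMap.range K.mulVecLin) ∧
      Module.Projective A[X] (LinearMap.range K.mulVecLin) := fun {p} K hK =>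
    ⟨Module.Finite.range _, Module.Projective.of_split (LinearMap.range K.mulVecLin).subtype
      K.mulVecLin.rangeRestrict (LinearMap.ext fun v => Subtype.ext (hfix K hK _ v.2))⟩
  obtain ⟨_, _⟩ := hproj E hE
  obtain ⟨_, _⟩ := hproj F hF
  have hE₁ : E.map (σ₁ (A := A)) * E.map (σ₁ (A := A)) = E.map (σ₁ (A := A)) := by
    rw [← Matrix.map_mul, hE]
  let jM : M →ₛₗ[σ₁ (A := A)] W :=
    { toFun := fun v => ⟨fun i => σ₁ ((v : Fin r → A[X]) i), fun i => σ₁ ((v : Fin r → A[X]) i), by
        funext i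
        have h := congrFun (hfix E hE _ v.2) i
        rw [Matrix.mulVecLin_apply]
        conv_rhs => rw [← h, RingHom.map_mulVec]
        rfl⟩
      map_add' := fun v w => Subtype.ext (funext fun i => map_add _ _ _)
      map_smul' := fun p v => Subtype.ext (funext fun i => map_mul _ _ _) }
  have hσ₂ : Function.Injective (σ₂ (A := A)) :=
    (LaurentPolynomial.invert (R := A)).injective.comp Polynomial.toLaurent_injective
  have hGmem : ∀ u : N, G *ᵥ (fun i => σ₂ ((u : Fin r' → A[X]) i)) =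
      E.map (σ₁ (A := A)) *ᵥ (G *ᵥ (fun i => σ₂ ((u : Fin r' → A[X]) i))) := by
    intro u
    have h : (fun i => σ₂ ((u : Fin r' → A[X]) i)) =
        F.map (σ₂ (A := A)) *ᵥ (fun i => σ₂ ((u : Fin r' → A[X]) i)) := by
      funext i
      conv_lhs => rw [← hfix F hF _ u.2, RingHom.map_mulVec]
      rfl
    conv_lhs => rw [h, ← hHG, Matrix.mulVec_mulVec, ← Matrix.mul_assoc, hGH, ← Matrix.mulVec_mulVec]
  let jN : N →ₛₗ[σ₂ (A := A)] W :=
    { toFun := fun u => ⟨G *ᵥ fun i => σ₂ ((u : Fin r' → A[X]) i), _, (hGmem u).symm⟩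
      map_add' := fun u w => Subtype.ext (by
        show G *ᵥ _ = G *ᵥ _ + G *ᵥ _
        rw [← Matrix.mulVec_add]
        congr 1
        funext i
        exact map_add _ _ _)
      map_smul' := fun p u => Subtype.ext (by
        show G *ᵥ _ = σ₂ p • (G *ᵥ _)
        rw [← Matrix.mulVec_smul]
        congr 1
        funext i
        exact map_mul _ _ _) }
  have hMc : IsChart jM := by
    refine ⟨fun v w h => Subtype.ext (funext fun i =>
      Polynomial.toLaurent_injective (congrFun (congrArg Subtype.val h) i)), fun w => ?_⟩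
    choose a p hp using fun i => ((w : Fin r → LaurentPolynomial A) i).exists_T_pow
    let c := Finset.univ.sup a
    let v0 : Fin r → A[X] := fun i => X ^ (c - a i) * p i
    refine ⟨c, ⟨E *ᵥ v0, v0, rfl⟩, Subtype.ext (funext fun i => ?_)⟩
    show σ₁ ((E *ᵥ v0) i) = σ₁ ((X : A[X]) ^ c) * (w : Fin r → LaurentPolynomial A) i
    have hv0 : ∀ l, σ₁ (v0 l) = σ₁ ((X : A[X]) ^ c) * (w : Fin r → LaurentPolynomial A) l := by
      intro l
      have hal : a l ≤ c := Finset.le_sup (f := a) (Finset.mem_univ l)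
      rw [map_mul, hp l, σ₁_X_pow, σ₁_X_pow, mul_left_comm, T_mul_T, mul_comm]
      congr 2
      push_cast [Nat.cast_sub hal]
      ring
    rw [RingHom.map_mulVec]
    have hw := congrFun (hfix _ hE₁ _ w.2) i
    conv_rhs => rw [← hw]
    show (E.map (σ₁ (A := A)) *ᵥ fun l => σ₁ (v0 l)) i = _
    rw [funext hv0]
    simp only [Matrix.mulVec, dotProduct, Finset.mul_sum]
    exact Finset.sum_congr rfl fun l _ => mul_left_comm _ _ _
  have hNc : IsChart jN := by
    refine ⟨fun u w h => Subtype.ext (funext fun i => hσ₂ ?_), fun w => ?_⟩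
    · have h' := congrArg (fun z => (H *ᵥ (z : W).1) i) h
      have e : ∀ u : N, (H *ᵥ (jN u : W).1) i = σ₂ ((u : Fin r' → A[X]) i) := by
        intro u
        show (H *ᵥ (G *ᵥ fun l => σ₂ ((u : Fin r' → A[X]) l))) i = _
        rw [Matrix.mulVec_mulVec, hHG]
        conv_rhs => rw [← hfix F hF _ u.2, RingHom.map_mulVec]
        rfl
      rw [e, e] at h'
      exact h'
    · choose a p hp using fun i =>
        (LaurentPolynomial.invert ((H *ᵥ (w : Fin r → LaurentPolynomial A)) i)).exists_T_pow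
      let c := Finset.univ.sup a
      let u0 : Fin r' → A[X] := fun i => X ^ (c - a i) * p i
      refine ⟨c, ⟨F *ᵥ u0, u0, rfl⟩, Subtype.ext ?_⟩
      show (G *ᵥ fun i => σ₂ ((F *ᵥ u0) i)) = σ₂ ((X : A[X]) ^ c) • (w : Fin r → LaurentPolynomial A)
      have hu0 : (fun l => σ₂ (u0 l)) =
          σ₂ ((X : A[X]) ^ c) • (H *ᵥ (w : Fin r → LaurentPolynomial A)) := by
        funext l
        have hal : a l ≤ c := Finset.le_sup (f := a) (Finset.mem_univ l)
        have hinv : σ₂ (p l) = (H *ᵥ (w : Fin r → LaurentPolynomial A)) l *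
            LaurentPolynomial.T (-(a l : ℤ)) := by
          show LaurentPolynomial.invert (Polynomial.toLaurent (p l)) = _
          rw [hp l, map_mul, LaurentPolynomial.invert_T, LaurentPolynomial.involutive_invert _]
        rw [Pi.smul_apply, smul_eq_mul, map_mul, hinv, σ₂_X_pow, σ₂_X_pow, mul_left_comm, T_mul_T,
          mul_comm]
        congr 2
        push_cast [Nat.cast_sub hal]
        ring
      have hFu : (fun i => σ₂ ((F *ᵥ u0) i)) = F.map (σ₂ (A := A)) *ᵥ fun l => σ₂ (u0 l) :=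
        funext fun i => RingHom.map_mulVec _ _ _ _
      rw [hFu, hu0, ← hHG, Matrix.mulVec_smul, Matrix.mulVec_smul, Matrix.mulVec_mulVec,
        Matrix.mulVec_mulVec]
      congr 1
      rw [show G * (H * G) * H = (G * H) * (G * H) by simp only [Matrix.mul_assoc], hGH, hE₁]
      exact hfix _ hE₁ _ w.2
  have : Module.Free A[X] M := free jM hMc jN hNc
  let b0 := Module.Free.chooseBasis A[X] M
  obtain ⟨n, ⟨b⟩⟩ : ∃ n, Nonempty (Module.Basis (Fin n) A[X] M) :=
    ⟨_, ⟨b0.reindex (Fintype.equivFin _)⟩⟩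
  refine ⟨n, LinearMap.toMatrix' (M.subtype.comp b.equivFun.symm.toLinearMap),
    LinearMap.toMatrix' (b.equivFun.toLinearMap.comp E.mulVecLin.rangeRestrict), ?_, ?_⟩
  · apply Matrix.toLin'.injective
    rw [Matrix.toLin'_mul, Matrix.toLin'_toMatrix', Matrix.toLin'_toMatrix']
    refine LinearMap.ext fun v => ?_
    simp only [LinearMap.comp_apply, LinearEquiv.coe_coe, LinearEquiv.symm_apply_apply]
    rfl
  · apply Matrix.toLin'.injective
    rw [Matrix.toLin'_mul, Matrix.toLin'_toMatrix', Matrix.toLin'_toMatrix', Matrix.toLin'_one]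
    refine LinearMap.ext fun v => ?_
    simp only [LinearMap.comp_apply, LinearEquiv.coe_coe, LinearMap.id_apply]
    have h : E.mulVecLin.rangeRestrict (M.subtype (b.equivFun.symm v)) = b.equivFun.symm v :=
      Subtype.ext (hfix E hE _ (b.equivFun.symm v).2)
    rw [h, LinearEquiv.apply_symm_apply]

/-- Spreading out a local trivialisation. -/
theorem spread {r' : ℕ} (E : Matrix (Fin r) (Fin r) A[X]) (hE : E * E = E)
    (F : Matrix (Fin r') (Fin r') A[X]) (hF : F * F = F)
    (G : Matrix (Fin r) (Fin r') (LaurentPolynomial A)) (H : Matrix (Fin r') (Fin r) (LaurentPolynomial A))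
    (hGH : G * H = E.map (σ₁ (A := A))) (hHG : H * G = F.map (σ₂ (A := A)))
    (m : Ideal A) (hm : m.IsMaximal) :
    ∃ (c : A) (n : ℕ) (P : Matrix (Fin r) (Fin n) A[X]) (Q : Matrix (Fin n) (Fin r) A[X]),
      c ∉ m ∧ E * P = P ∧ Q * E = Q ∧ P * Q = Polynomial.C c • E ∧
        Q * P = Polynomial.C c • (1 : Matrix (Fin n) (Fin n) A[X]) := by
  classical
  have := hm.isPrime
  let B := Localization.AtPrime m
  let ρ : A →+* B := algebraMap A B
  let ρL : LaurentPolynomial A →+* LaurentPolynomial B := AddMonoidAlgebra.mapRingHom ℤ ρ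
  have hT : ∀ k : ℤ, ρL (LaurentPolynomial.T k) = LaurentPolynomial.T k := fun k =>
    (AddMonoidAlgebra.mapRingHom_single ρ k 1).trans (by rw [map_one]; rfl)
  have hC : ∀ a : A, ρL (LaurentPolynomial.C a) = LaurentPolynomial.C (ρ a) := fun a =>
    AddMonoidAlgebra.mapRingHom_single ρ 0 a
  have hsq₁ : ρL.comp (σ₁ (A := A)) = (σ₁ (A := B)).comp (mapRingHom ρ) :=
    Polynomial.ringHom_ext (fun a => by simp [σ₁, hC]) (by simp [σ₁, hT])
  have hsq₂ : ρL.comp (σ₂ (A := A)) = (σ₂ (A := B)).comp (mapRingHom ρ) :=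
    Polynomial.ringHom_ext (fun a => by simp [σ₂, hC]) (by simp [σ₂, hT])
  let φ : A[X] →+* B[X] := mapRingHom ρ
  obtain ⟨n, P, Q, hPQ, hQP⟩ := local_trivial (A := B) (E.map φ) (by rw [← Matrix.map_mul, hE])
    (F.map φ) (by rw [← Matrix.map_mul, hF]) (G.map ρL) (H.map ρL)
    (by rw [← Matrix.map_mul, hGH, map_map_hom, map_map_hom, hsq₁])
    (by rw [← Matrix.map_mul, hHG, map_map_hom, map_map_hom, hsq₂])
  letI : Algebra A[X] B[X] := φ.toAlgebra
  have : IsLocalization (m.primeCompl.map (Polynomial.C : A →+* A[X])) B[X] :=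
    Polynomial.isLocalization m.primeCompl B
  have hden : ∀ {p q : ℕ} (K : Matrix (Fin p) (Fin q) B[X]),
      ∃ s ∉ m, ∃ K0 : Matrix (Fin p) (Fin q) A[X],
        K0.map φ = φ (Polynomial.C s) • K := by
    intro p q K
    obtain ⟨⟨_, s, hs, rfl⟩, hb⟩ := IsLocalization.exist_integer_multiples_of_finite
      (m.primeCompl.map (Polynomial.C : A →+* A[X])) fun ij : Fin p × Fin q => K ij.1 ij.2
    choose K0 hK0 using hb
    refine ⟨s, hs, Matrix.of fun i j => K0 (i, j), ?_⟩
    ext1 i j
    exact hK0 (i, j)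
  have hkill : ∀ {p q : ℕ} (K : Matrix (Fin p) (Fin q) A[X]), K.map φ = 0 →
      ∃ t ∉ m, Polynomial.C t • K = 0 := by
    intro p q K hK
    choose t ht using fun (ij : Fin p × Fin q) => (IsLocalization.map_eq_zero_iff
      (m.primeCompl.map (Polynomial.C : A →+* A[X])) B[X] (K ij.1 ij.2)).mp
      (congrFun (congrFun hK ij.1) ij.2)
    have hex : ∀ ij : Fin p × Fin q, ∃ s ∉ m, (Polynomial.C s : A[X]) * K ij.1 ij.2 = 0 := fun ij => by
      obtain ⟨s, hs, e⟩ := (t ij).2
      exact ⟨s, hs, by rw [e]; exact ht ij⟩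
    choose s hs hs0 using hex
    refine ⟨∏ ij, s ij, fun h => ?_, ?_⟩
    · obtain ⟨ij, -, h1⟩ := hm.isPrime.prod_mem_iff.mp h
      exact hs ij h1
    · ext1 i j
      rw [Matrix.smul_apply, smul_eq_mul, ← Finset.prod_erase_mul _ _ (Finset.mem_univ (i, j)),
        map_mul, mul_assoc, hs0 (i, j), mul_zero, Matrix.zero_apply]
  obtain ⟨s, hs, P0, hP0⟩ := hden P
  obtain ⟨s', hs', Q0, hQ0⟩ := hden Q
  let d : A[X] := Polynomial.C (s * s')
  have hd : φ (Polynomial.C s) * φ (Polynomial.C s') = φ d := by rw [← map_mul, ← map_mul]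
  obtain ⟨t, ht, ht0⟩ := hkill (E * P0 * (Q0 * E) - d • E) (by
    simp only [Matrix.map_sub _ (map_sub φ), Matrix.map_mul, map_smul_hom, hP0, hQ0, Matrix.mul_smul,
      Matrix.smul_mul, smul_smul, Matrix.mul_assoc]
    rw [show E.map φ * (P * (Q * E.map φ)) = E.map φ * ((P * Q) * E.map φ) by
      rw [Matrix.mul_assoc], hPQ, ← Matrix.map_mul, ← Matrix.map_mul, hE, hE,
      mul_comm (φ (Polynomial.C s')), hd, sub_self])
  obtain ⟨t', ht', ht0'⟩ := hkill (Q0 * E * (E * P0) - d • (1 : Matrix (Fin n) (Fin n) A[X])) (by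
    simp only [Matrix.map_sub _ (map_sub φ), Matrix.map_mul, map_smul_hom, hP0, hQ0, Matrix.mul_smul,
      Matrix.smul_mul, smul_smul, Matrix.mul_assoc, Matrix.map_one _ (map_zero φ) (map_one φ)]
    rw [show Q * (E.map φ * (E.map φ * P)) = Q * ((E.map φ * E.map φ) * P) by
      rw [Matrix.mul_assoc], ← Matrix.map_mul, hE, ← hPQ,
      show Q * ((P * Q) * P) = (Q * P) * (Q * P) by simp only [Matrix.mul_assoc], hQP, one_mul,
      hd, sub_self])
  refine ⟨t * t' * (t * t') * (s * s'), n, Polynomial.C (t * t') • (E * P0),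
    Polynomial.C (t * t') • (Q0 * E), ?_, ?_, ?_, ?_, ?_⟩
  · intro h
    rcases hm.isPrime.mem_or_mem h with h | h <;> rcases hm.isPrime.mem_or_mem h with h | h <;>
      (try rcases hm.isPrime.mem_or_mem h with h | h) <;>
      first | exact hs h | exact hs' h | exact ht h | exact ht' h
  · rw [Matrix.mul_smul, ← Matrix.mul_assoc, hE]
  · rw [Matrix.smul_mul, Matrix.mul_assoc, hE]
  · have e : Polynomial.C t • (E * P0 * (Q0 * E)) = Polynomial.C t • (d • E) := by
      rw [← sub_eq_zero, ← smul_sub, ht0]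
    rw [Matrix.smul_mul, Matrix.mul_smul, smul_smul,
      show Polynomial.C (t * t') * Polynomial.C (t * t') =
        (Polynomial.C t' * (Polynomial.C t * Polynomial.C t')) * Polynomial.C t by
          simp only [map_mul]; ring, mul_smul, e, smul_smul, smul_smul]
    congr 1
    simp only [d, map_mul]; ring
  · have e : Polynomial.C t' • (Q0 * E * (E * P0)) =
        Polynomial.C t' • (d • (1 : Matrix (Fin n) (Fin n) A[X])) := by
      rw [← sub_eq_zero, ← smul_sub, ht0']
    rw [Matrix.smul_mul, Matrix.mul_smul, smul_smul,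
      show Polynomial.C (t * t') * Polynomial.C (t * t') =
        (Polynomial.C t * (Polynomial.C t * Polynomial.C t')) * Polynomial.C t' by
          simp only [map_mul]; ring, mul_smul, e, smul_smul, smul_smul]
    congr 1
    simp only [d, map_mul]; ring

/-- **Horrocks + Quillen**: an idempotent matrix which extends to the projective line is extended. -/
theorem extended {r' : ℕ} (E : Matrix (Fin r) (Fin r) A[X]) (hE : E * E = E)
    (F : Matrix (Fin r') (Fin r') A[X]) (hF : F * F = F)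
    (G : Matrix (Fin r) (Fin r') (LaurentPolynomial A)) (H : Matrix (Fin r') (Fin r) (LaurentPolynomial A))
    (hGH : G * H = E.map (σ₁ (A := A))) (hHG : H * G = F.map (σ₂ (A := A))) :
    Sim (E.map ((Polynomial.C).comp (evalRingHom (0 : A)))) E :=
  sim_const E hE fun m hm => spread E hE F hF G H hGH hHG m hm

end Groth.Agent.CAlg9.Horrocks
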